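import Mathlib
import Groth.Prelude.Def_NumR
import Groth.Agent.Lib.Lead.RR.SurfKitG

/-!
# The Hodge index inequality for real classes on a smooth projective surface
-/

set_option autoImplicit false
set_option linter.style.haveILetI false
universe u
open CategoryTheory CategoryTheory.Limits AlgebraicGeometry TopologicalSpace Opposite

namespace Groth.Agent.H5.NumRS

open Groth.Agent.LD Groth.Agent.LD.QC

section LinAlg

variable {V : Type*} [AddCommGroup V] [Module ℝ V]

/-- **density principle**: a "reverse Cauchy–Schwarz" inequality against a fixed vector `h`,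
known on a subgroup-like set `Λ` of vectors closed under sums and rational multiples, holds on
the real span of `Λ`. -/
theorem ineq_of_dense (B : V →ₗ[ℝ] V →ₗ[ℝ] ℝ) (h : V) (P : V → Prop)
    (hP0 : P 0) (hPadd : ∀ u v, P u → P v → P (u + v))
    (hPq : ∀ (q : ℚ) (u : V), P u → P ((q : ℝ) • u))
    (hineq : ∀ u, P u → B u u * B h h ≤ (B u h) ^ 2)
    (u : V) (hu : u ∈ Submodule.span ℝ {v | P v}) :
    B u u * B h h ≤ (B u h) ^ 2 := by
  obtain ⟨n, b, e, rfl⟩ := Submodule.mem_span_set'.mp hu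
  let U : (Fin n → ℝ) →ₗ[ℝ] V := Fintype.linearCombination ℝ (fun i => (e i : V))
  have hU : ∀ c : Fin n → ℝ, U c = ∑ i, c i • (e i : V) := fun c => rfl
  change B (U b) (U b) * B h h ≤ (B (U b) h) ^ 2
  -- continuity
  have hc1 : Continuous fun c : Fin n → ℝ => B (U c) h := by
    have : (fun c : Fin n → ℝ => B (U c) h) = ((B.flip h).comp U) := by
      funext c
      rfl
    rw [this]
    exact LinearMap.continuous_of_finiteDimensional _
  have hc2 : Continuous fun c : Fin n → ℝ => B (U c) (U c) := by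
    let β : (Fin n → ℝ) →ₗ[ℝ] (Fin n → ℝ) →ₗ[ℝ] ℝ := B.compl₁₂ U U
    have h1 := IsModuleTopology.continuous_bilinear_of_pi_fintype (R := ℝ) (Fin n) β
    have h2 : Continuous fun c : Fin n → ℝ => (c, c) := by fun_prop
    exact h1.comp h2
  have hclosed : IsClosed {c : Fin n → ℝ | B (U c) (U c) * B h h ≤ (B (U c) h) ^ 2} :=
    isClosed_le (hc2.mul continuous_const) (hc1.pow 2)
  have hdense : DenseRange (Pi.map fun (_ : Fin n) (q : ℚ) => (q : ℝ)) :=
    DenseRange.piMap fun _ => Rat.denseRange_cast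
  refine hdense.induction_on (p := fun c => B (U c) (U c) * B h h ≤ (B (U c) h) ^ 2) b hclosed ?_
  intro q
  apply hineq
  rw [hU]
  refine Finset.sum_induction _ P hPadd hP0 ?_
  intro i _
  exact hPq (q i) _ (e i).2

end LinAlg

variable (k : Type u) [Field k] (X : Scheme.{u}) [X.Over (Spec (CommRingCat.of k))]
  [IsProper (X ↘ Spec (CommRingCat.of k))] [Smooth (X ↘ Spec (CommRingCat.of k))] [IsIntegral X]
  [PicGrp.Law X]

/-- `u` has a positive integer multiple which is an integral class. -/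
def IsRat (u : NumR.N1R k X) : Prop :=
  ∃ N : ℕ, 0 < N ∧ ∃ μ : NumR.N1 k X, (N : ℝ) • u = NumR.toN1R k X μ

variable {k X}

lemma isRat_zero : IsRat k X 0 := ⟨1, one_pos, 0, by simp⟩

lemma isRat_add (u v : NumR.N1R k X) (hu : IsRat k X u) (hv : IsRat k X v) :
    IsRat k X (u + v) := by
  obtain ⟨N₁, hN₁, μ₁, h₁⟩ := hu
  obtain ⟨N₂, hN₂, μ₂, h₂⟩ := hv
  refine ⟨N₁ * N₂, Nat.mul_pos hN₁ hN₂, N₂ • μ₁ + N₁ • μ₂, ?_⟩
  rw [map_add, map_nsmul, map_nsmul, ← h₁, ← h₂, smul_add]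
  congr 1
  · rw [← Nat.cast_smul_eq_nsmul ℝ N₂, smul_smul]
    congr 1
    push_cast
    ring
  · rw [← Nat.cast_smul_eq_nsmul ℝ N₁, smul_smul]
    congr 1
    push_cast
    ring

lemma isRat_smul (q : ℚ) (u : NumR.N1R k X) (hu : IsRat k X u) : IsRat k X ((q : ℝ) • u) := by
  obtain ⟨N, hN, μ, h⟩ := hu
  refine ⟨q.den * N, Nat.mul_pos q.den_pos hN, q.num • μ, ?_⟩
  rw [map_zsmul, ← h, ← Int.cast_smul_eq_zsmul ℝ q.num, smul_smul, smul_smul]
  congr 1
  have hq : ((q.den : ℚ) : ℝ) * (q : ℝ) = ((q.num : ℚ) : ℝ) := by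
    rw [← Rat.cast_mul]
    congr 1
    rw [mul_comm]
    exact Rat.mul_den_eq_num q
  push_cast at hq ⊢
  linear_combination (N : ℝ) * hq

lemma isRat_toN1R (μ : NumR.N1 k X) : IsRat k X (NumR.toN1R k X μ) :=
  ⟨1, one_pos, μ, by simp⟩

lemma span_isRat : Submodule.span ℝ {v : NumR.N1R k X | IsRat k X v} = ⊤ := by
  rw [eq_top_iff, ← NumR.span_clR]
  apply Submodule.span_mono
  rintro _ ⟨L, hL, rfl⟩
  exact isRat_toN1R _

variable (k X)

/-- **the Hodge index inequality for real classes**: `(u·u)(h·h) ≤ (u·h)²` for `h` the class of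
an ample module. -/
theorem real_hodge (hdim : topologicalKrullDim X = 2)
    (B : NumR.N1R k X →ₗ[ℝ] NumR.N1R k X →ₗ[ℝ] ℝ) (hB : NumR.IsIntForm₂ k X B)
    (H : X.Modules) (hH : CohB1.IsAmple H) (u : NumR.N1R k X) :
    B u u * B (NumR.clR k X H hH.1) (NumR.clR k X H hH.1) ≤ (B u (NumR.clR k X H hH.1)) ^ 2 := by
  have hreg : ∀ x : X, IsRegularLocalRing (X.presheaf.stalk x) := fun x =>
    Groth.Agent.H1.SmoothDepth.isRegularLocalRing_stalk_of_smooth k
      (X ↘ Spec (CommRingCat.of k)) x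
  refine ineq_of_dense B _ (IsRat k X) isRat_zero isRat_add isRat_smul ?_ u
    (by rw [span_isRat]; trivial)
  rintro v ⟨N, hN, μ, hv⟩
  obtain ⟨M, hM, rfl⟩ := NumR.exists_eq_cl μ
  have hNR : (0 : ℝ) < N := by exact_mod_cast hN
  -- the inequality for `N • v`
  have h1 := Groth.Agent.LD.RRS.KitG.hodge_inequality k hdim hreg H hH M hM
  have h1R : (FGA.intNum k X 2 ![M, M] (Coh.structureModule X) : ℝ) *
      (FGA.intNum k X 2 ![H, H] (Coh.structureModule X) : ℝ) ≤
      (FGA.intNum k X 2 ![M, H] (Coh.structureModule X) : ℝ) ^ 2 := by exact_mod_cast h1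
  have hcl : NumR.toN1R k X (NumR.cl k X M hM) = NumR.clR k X M hM := rfl
  rw [hcl] at hv
  rw [← hB M M hM hM, ← hB H H hH.1 hH.1, ← hB M H hM hH.1, ← hv] at h1R
  simp only [map_smul, LinearMap.smul_apply, smul_eq_mul] at h1R
  have hN2 : (0 : ℝ) < (N : ℝ) ^ 2 := by positivity
  have : (N : ℝ) ^ 2 * (B v v * B (NumR.clR k X H hH.1) (NumR.clR k X H hH.1)) ≤
      (N : ℝ) ^ 2 * (B v (NumR.clR k X H hH.1)) ^ 2 := by nlinarith
  exact le_of_mul_le_mul_left this hN2

end Groth.Agent.H5.NumRS
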