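import Mathlib
import Groth.Prelude.Def_NumR
import Groth.Agent.Lib.Helper5.NumRS.A

/-!
# The positive cone of a smooth projective surface (S19728, S19726)
-/

set_option autoImplicit false
set_option linter.style.haveILetI false
universe u
open CategoryTheory CategoryTheory.Limits AlgebraicGeometry TopologicalSpace Opposite

namespace Groth.Agent.H5.NumRS

open Groth.Agent.LD Groth.Agent.LD.QC

variable (k : Type u) [Field k] (X : Scheme.{u}) [X.Over (Spec (CommRingCat.of k))]
  [IsProper (X ↘ Spec (CommRingCat.of k))] [Smooth (X ↘ Spec (CommRingCat.of k))] [IsIntegral X]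
  [PicGrp.Law X]

variable {k X} in
/-- the intersection form is symmetric. -/
theorem isIntForm_symm (B : NumR.N1R k X →ₗ[ℝ] NumR.N1R k X →ₗ[ℝ] ℝ)
    (hB : NumR.IsIntForm₂ k X B) (x y : NumR.N1R k X) : B x y = B y x := by
  have h : B = B.flip := by
    refine LinearMap.ext_on NumR.span_clR ?_
    rintro _ ⟨L, hL, rfl⟩
    refine LinearMap.ext_on NumR.span_clR ?_
    rintro _ ⟨M, hM, rfl⟩
    rw [LinearMap.flip_apply, hB, hB, Groth.Agent.LD.RRS.Kit.intNum_comm k L M hL hM]
  calc B x y = B.flip x y := by rw [← h]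
    _ = B y x := rfl

/-- the class of an ample module has positive square. -/
theorem ample_sq_pos (hdim : topologicalKrullDim X = 2)
    (B : NumR.N1R k X →ₗ[ℝ] NumR.N1R k X →ₗ[ℝ] ℝ) (hB : NumR.IsIntForm₂ k X B)
    (H : X.Modules) (hH : CohB1.IsAmple H) :
    0 < B (NumR.clR k X H hH.1) (NumR.clR k X H hH.1) := by
  rw [hB]
  exact_mod_cast Groth.Agent.LD.RRS.KitG.intNum_self_pos_of_isAmple k hdim H hH

/-- **S19728**. -/
theorem pos_pairing (hdim : topologicalKrullDim X = 2)
    (B : NumR.N1R k X →ₗ[ℝ] NumR.N1R k X →ₗ[ℝ] ℝ) (hB : NumR.IsIntForm₂ k X B)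
    (H : X.Modules) (hH : CohB1.IsAmple H) (x y : NumR.N1R k X)
    (hx : x ∈ NumR.posCone k X B H hH.1) (hy : 0 ≤ B y y)
    (hyH : 0 < B y (NumR.clR k X H hH.1)) : 0 < B x y := by
  obtain ⟨hxx, hxH⟩ := hx
  set h := NumR.clR k X H hH.1 with hh
  have hhh := ample_sq_pos k X hdim B hB H hH
  rw [← hh] at hhh
  set a := B y h with ha
  set b := B x h with hb
  have hu := real_hodge k X hdim B hB H hH (a • x - b • y)
  rw [← hh] at hu
  have h0 : B (a • x - b • y) h = 0 := by
    simp only [map_sub, map_smul, LinearMap.sub_apply, LinearMap.smul_apply, smul_eq_mul]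
    rw [← ha, ← hb]
    ring
  rw [h0] at hu
  have hsym := isIntForm_symm B hB y x
  have hexp : B (a • x - b • y) (a • x - b • y) =
      a ^ 2 * B x x - 2 * (a * b) * B x y + b ^ 2 * B y y := by
    simp only [map_sub, map_smul, LinearMap.sub_apply, LinearMap.smul_apply, smul_eq_mul]
    rw [hsym]
    ring
  rw [hexp] at hu
  have hle : a ^ 2 * B x x - 2 * (a * b) * B x y + b ^ 2 * B y y ≤ 0 := by
    by_contra hcon
    push Not at hcon
    have := mul_pos hcon hhh
    nlinarith
  have hab : 0 < a * b := mul_pos hyH hxH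
  have h1 : 0 < a ^ 2 * B x x := by positivity
  have h2 : 0 ≤ b ^ 2 * B y y := by positivity
  by_contra hcon
  push Not at hcon
  have : 2 * (a * b) * B x y ≤ 0 := by nlinarith
  linarith

/-- **S19726**. -/
theorem posCone_open_convex (hdim : topologicalKrullDim X = 2)
    [Module.Finite ℝ (NumR.N1R k X)]
    (B : NumR.N1R k X →ₗ[ℝ] NumR.N1R k X →ₗ[ℝ] ℝ) (hB : NumR.IsIntForm₂ k X B)
    (H : X.Modules) (hH : CohB1.IsAmple H) :
    IsOpen (NumR.posCone k X B H hH.1) ∧ Convex ℝ (NumR.posCone k X B H hH.1) := by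
  constructor
  · have hc1 : Continuous fun x : NumR.N1R k X => B x (NumR.clR k X H hH.1) :=
      IsModuleTopology.continuous_of_linearMap (B.flip (NumR.clR k X H hH.1))
    have hc2 : Continuous fun x : NumR.N1R k X => B x x := by
      have h1 := IsModuleTopology.continuous_bilinear_of_finite_left B
      have h2 : Continuous fun x : NumR.N1R k X => (x, x) := by fun_prop
      exact h1.comp h2
    exact (isOpen_lt continuous_const hc2).inter (isOpen_lt continuous_const hc1)
  · rw [convex_iff_add_mem]
    intro x hx y hy a b ha hb hab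
    have hxy := pos_pairing k X hdim B hB H hH x y hx hy.1.le hy.2
    obtain ⟨hxx, hxH⟩ := hx
    obtain ⟨hyy, hyH⟩ := hy
    have hsym := isIntForm_symm B hB y x
    constructor
    · have hexp : B (a • x + b • y) (a • x + b • y) =
          a ^ 2 * B x x + 2 * (a * b) * B x y + b ^ 2 * B y y := by
        simp only [map_add, map_smul, LinearMap.add_apply, LinearMap.smul_apply, smul_eq_mul]
        rw [hsym]
        ring
      rw [hexp]
      rcases ha.eq_or_lt with h0 | hpos
      · have hb1 : b = 1 := by linarith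
        rw [← h0, hb1]
        simpa using hyy
      · have h1 : 0 < a ^ 2 * B x x := by positivity
        have h2 : 0 ≤ 2 * (a * b) * B x y := by positivity
        have h3 : 0 ≤ b ^ 2 * B y y := by positivity
        linarith
    · simp only [map_add, map_smul, LinearMap.add_apply, LinearMap.smul_apply, smul_eq_mul]
      rcases ha.eq_or_lt with h0 | hpos
      · have hb1 : b = 1 := by linarith
        rw [← h0, hb1]
        simpa using hyH
      · have h1 : 0 < a * B x (NumR.clR k X H hH.1) := mul_pos hpos hxH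
        have h2 : 0 ≤ b * B y (NumR.clR k X H hH.1) := mul_nonneg hb hyH.le
        linarith

end Groth.Agent.H5.NumRS
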