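import Mathlib
import Groth.Prelude.Def_NumR
import Groth.Agent.Lib.Helper5.NumRS.B
import Groth.Agent.Lib.Helper5.IntN.PosMain
import Groth.Agent.Lib.Helper5.VAmple.I
import Groth.Agent.Lib.Helper5.VAmple.J
import Groth.Agent.Lib.Helper5.Glue.F

/-!
# The ample cone of a smooth projective surface is open and lies in the positive cone (S19729)
-/

set_option autoImplicit false
set_option linter.style.haveILetI false
universe u
open CategoryTheory CategoryTheory.Limits AlgebraicGeometry TopologicalSpace Opposite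

namespace Groth.Agent.H5.NumRS

open Groth.Agent.LD Groth.Agent.LD.QC

section Classes

variable {k : Type u} [Field k] {X : Scheme.{u}} [X.Over (Spec (CommRingCat.of k))]
  [PicGrp.Law X]

lemma cls_tensor {L M : X.Modules} (hL : PicF.IsInvertible L) (hM : PicF.IsInvertible M)
    (hLM : PicF.IsInvertible (CohB1.tensorMod L M)) :
    PicGrp.cls (CohB1.tensorMod L M) hLM = PicGrp.cls L hL * PicGrp.cls M hM :=
  Subtype.ext (by rw [PicGrp.cls_val, PicGrp.cls_mul_cls_val])

lemma clR_tensor {L M : X.Modules} (hL : PicF.IsInvertible L) (hM : PicF.IsInvertible M)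
    (hLM : PicF.IsInvertible (CohB1.tensorMod L M)) :
    NumR.clR k X (CohB1.tensorMod L M) hLM = NumR.clR k X L hL + NumR.clR k X M hM := by
  unfold NumR.clR NumR.cl
  rw [cls_tensor hL hM hLM, ofMul_mul, map_add, map_add]

lemma clR_congr {L M : X.Modules} (hL : PicF.IsInvertible L) (hM : PicF.IsInvertible M)
    (e : L ≅ M) : NumR.clR k X L hL = NumR.clR k X M hM := by
  unfold NumR.clR NumR.cl
  rw [(PicGrp.cls_eq_cls_iff hL hM).mpr ⟨e⟩]

lemma clR_unit (hO : PicF.IsInvertible (Coh.structureModule X)) :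
    NumR.clR k X (Coh.structureModule X) hO = 0 := by
  unfold NumR.clR NumR.cl
  have : PicGrp.cls (Coh.structureModule X) hO = 1 := PicGrp.cls_structureModule_eq_one
  rw [this, ofMul_one, map_zero, map_zero]

lemma clR_pow {L : X.Modules} (hL : PicF.IsInvertible L) (n : ℕ)
    (hLn : PicF.IsInvertible (CohB1.tensorPow L n)) :
    NumR.clR k X (CohB1.tensorPow L n) hLn = (n : ℝ) • NumR.clR k X L hL := by
  have h1 : PicGrp.cls (CohB1.tensorPow L n) hLn = PicGrp.cls L hL ^ n :=
    Subtype.ext (by rw [PicGrp.cls_val, PicGrp.cls_pow_val])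
  unfold NumR.clR NumR.cl
  rw [h1, ofMul_pow, map_nsmul, map_nsmul, Nat.cast_smul_eq_nsmul]

lemma clR_inverse {L M : X.Modules} (hL : PicF.IsInvertible L) (hM : PicF.IsInvertible M)
    (e : CohB1.tensorMod L M ≅ Coh.structureModule X) :
    NumR.clR k X M hM = - NumR.clR k X L hL := by
  have hLM : PicF.IsInvertible (CohB1.tensorMod L M) := isInvertible_tensorMod hL hM
  have h1 := clR_tensor (k := k) hL hM hLM
  rw [clR_congr hLM (PicLoc.isInvertible_structureModule X) e, clR_unit] at h1
  exact eq_neg_of_add_eq_zero_right h1.symm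

end Classes

variable (k : Type u) [Field k] (X : Scheme.{u}) [X.Over (Spec (CommRingCat.of k))]
  [IsProper (X ↘ Spec (CommRingCat.of k))] [Smooth (X ↘ Spec (CommRingCat.of k))] [IsIntegral X]
  [PicGrp.Law X]

/-- the positive cone as a convex cone. -/
noncomputable def posConvexCone (hdim : topologicalKrullDim X = 2)
    (B : NumR.N1R k X →ₗ[ℝ] NumR.N1R k X →ₗ[ℝ] ℝ) (hB : NumR.IsIntForm₂ k X B)
    (H : X.Modules) (hH : CohB1.IsAmple H) : ConvexCone ℝ (NumR.N1R k X) where
  carrier := NumR.posCone k X B H hH.1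
  smul_mem' := by
    rintro c hc x ⟨h1, h2⟩
    refine ⟨?_, ?_⟩
    · simp only [map_smul, LinearMap.smul_apply, smul_eq_mul]
      positivity
    · simp only [map_smul, LinearMap.smul_apply, smul_eq_mul]
      positivity
  add_mem' := by
    intro x hx y hy
    have hxy := pos_pairing k X hdim B hB H hH x y hx hy.1.le hy.2
    have hsym := isIntForm_symm B hB y x
    obtain ⟨hxx, hxH⟩ := hx
    obtain ⟨hyy, hyH⟩ := hy
    refine ⟨?_, ?_⟩
    · simp only [map_add, LinearMap.add_apply]
      rw [hsym]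
      linarith
    · simp only [map_add, LinearMap.add_apply]
      linarith

/-- **the ample cone lies in the positive cone.** -/
theorem ampleCone_subset_posCone (hdim : topologicalKrullDim X = 2)
    (B : NumR.N1R k X →ₗ[ℝ] NumR.N1R k X →ₗ[ℝ] ℝ) (hB : NumR.IsIntForm₂ k X B)
    (H : X.Modules) (hH : CohB1.IsAmple H) :
    (NumR.ampleCone k X : Set (NumR.N1R k X)) ⊆ NumR.posCone k X B H hH.1 := by
  have h := ConvexCone.hull_min (R := ℝ) (C := posConvexCone k X hdim B hB H hH)
    (s := {x : NumR.N1R k X | ∃ (L : X.Modules) (hL : PicF.IsInvertible L),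
      CohB1.IsAmple L ∧ x = NumR.clR k X L hL}) ?_
  · exact h
  · rintro _ ⟨A, hAinv, hA, rfl⟩
    refine ⟨ample_sq_pos k X hdim B hB A hA, ?_⟩
    rw [hB]
    obtain ⟨A', hA', ⟨eA⟩⟩ := Groth.Agent.H5.Glue.exists_inverse A hA.1
    obtain ⟨H', hH', ⟨eH⟩⟩ := Groth.Agent.H5.Glue.exists_inverse H hH.1
    have hd : topologicalKrullDim X ≤ ((2 : ℕ) : WithBot ℕ∞) := le_of_eq hdim
    have h1 := Groth.Agent.H5.IntN.intNum_pos_of_isAmple k X 2 hd ![A, H] ![A', H']
      (fun i => by fin_cases i; exact hA; exact hH)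
      (fun i => by fin_cases i; exact ⟨eA⟩; exact ⟨eH⟩)
      (unitMod X) (Groth.Agent.LD.PF.isCoh_unitMod X)
      (by rw [Groth.Agent.H5.IntN.dim_support_unitMod, hdim]; rfl)
    rw [← Groth.Agent.LD.RRS.Kit.intNum_inv_inv k hd A A' H H' hA.1 hH.1 eA eH]
    exact_mod_cast h1

end Groth.Agent.H5.NumRS
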