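import Mathlib
import Groth.Prelude.Def_NumR
import Groth.Agent.Lib.Helper5.NumRS.C

/-!
# Openness of the ample cone (S19729)
-/

set_option autoImplicit false
set_option linter.style.haveILetI false
universe u
open CategoryTheory CategoryTheory.Limits AlgebraicGeometry TopologicalSpace Opposite

namespace Groth.Agent.H5.NumRS

open Groth.Agent.LD Groth.Agent.LD.QC

section Cone

variable {V : Type*} [AddCommGroup V] [Module ℝ V] [TopologicalSpace V] [IsModuleTopology ℝ V]

/-- a convex cone which is "open in finitely many spanning directions" at each of its points is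
open. -/
theorem isOpen_of_directional (A : ConvexCone ℝ V) {ι : Type*} [Fintype ι] (e : ι → V)
    (hspan : Submodule.span ℝ (Set.range e) = ⊤)
    (hdir : ∀ x ∈ A, ∀ j, ∃ ε : ℝ, 0 < ε ∧ ∀ t : ℝ, |t| ≤ ε → x + t • e j ∈ A) :
    IsOpen (A : Set V) := by
  classical
  haveI : ContinuousAdd V := IsModuleTopology.toContinuousAdd ℝ V
  haveI : ContinuousSMul ℝ V := IsModuleTopology.toContinuousSMul ℝ V
  rw [isOpen_iff_mem_nhds]
  intro x hx
  choose ε hε hεA using hdir x hx
  let U : (ι → ℝ) →ₗ[ℝ] V := Fintype.linearCombination ℝ e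
  have hU : ∀ t : ι → ℝ, U t = ∑ j, t j • e j := fun t => rfl
  have hUsurj : Function.Surjective U := by
    rw [← LinearMap.range_eq_top, Fintype.range_linearCombination, hspan]
  have hUopen : IsOpenMap U := IsModuleTopology.isOpenMap_of_surjective hUsurj
  let ball : Set (ι → ℝ) := {t | ∑ j, |t j| / ε j < 1}
  have hball : IsOpen ball := by
    apply isOpen_lt _ continuous_const
    fun_prop
  have h0 : (0 : ι → ℝ) ∈ ball := by
    change ∑ j, |(0 : ι → ℝ) j| / ε j < 1
    simp
  -- the image of the ball, translated by `x`, lies in the cone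
  have hsub : (fun v => x + v) '' (U '' ball) ⊆ (A : Set V) := by
    rintro _ ⟨_, ⟨t, ht, rfl⟩, rfl⟩
    change x + U t ∈ A
    set s : ι → ℝ := fun j => |t j| / ε j with hs
    have hs0 : ∀ j, 0 ≤ s j := fun j => div_nonneg (abs_nonneg _) (hε j).le
    have hslt : ∑ j, s j < 1 := ht
    -- each term lies in `A ∪ {0}`
    have hterm : ∀ j, s j • x + t j • e j ∈ A ∨ s j • x + t j • e j = 0 := by
      intro j
      rcases (hs0 j).eq_or_lt with h0 | hpos
      · right
        have htj : t j = 0 := by
          have : |t j| / ε j = 0 := h0.symm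
          rcases div_eq_zero_iff.mp this with h | h
          · exact abs_eq_zero.mp h
          · exact absurd h (hε j).ne'
        rw [← h0, htj, zero_smul, zero_smul, add_zero]
      · left
        have h1 : s j • x + t j • e j = s j • (x + (t j / s j) • e j) := by
          rw [smul_add, smul_smul, mul_div_cancel₀ _ hpos.ne']
        rw [h1]
        apply A.smul_mem hpos
        apply hεA
        rw [abs_div, abs_of_pos hpos, hs]
        have htj : |t j| ≠ 0 := by
          intro h
          rw [hs] at hpos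
          simp [h] at hpos
        change |t j| / (|t j| / ε j) ≤ ε j
        rw [div_div_eq_mul_div, mul_comm, mul_div_assoc, div_self htj, mul_one]
    have hsum : ∀ (T : Finset ι), (∑ j ∈ T, (s j • x + t j • e j)) ∈ A ∨
        (∑ j ∈ T, (s j • x + t j • e j)) = 0 := by
      intro T
      induction T using Finset.induction_on with
      | empty => right; simp
      | insert a T ha ih =>
        rw [Finset.sum_insert ha]
        rcases hterm a with h1 | h1 <;> rcases ih with h2 | h2
        · left; exact A.add_mem h1 h2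
        · left; rw [h2, add_zero]; exact h1
        · left; rw [h1, zero_add]; exact h2
        · right; rw [h1, h2, add_zero]
    have hdecomp : x + U t = (1 - ∑ j, s j) • x + ∑ j, (s j • x + t j • e j) := by
      rw [hU, Finset.sum_add_distrib, ← Finset.sum_smul, sub_smul, one_smul]
      abel
    rw [hdecomp]
    have hpos : 0 < 1 - ∑ j, s j := by linarith
    have hx' : (1 - ∑ j, s j) • x ∈ A := A.smul_mem hpos hx
    rcases hsum Finset.univ with h | h
    · exact A.add_mem hx' h
    · rw [h, add_zero]; exact hx'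
  have hopen : IsOpen ((fun v => x + v) '' (U '' ball)) :=
    (Homeomorph.addLeft x).isOpenMap _ (hUopen _ hball)
  have hmem : x ∈ (fun v => x + v) '' (U '' ball) :=
    ⟨0, ⟨0, h0, map_zero U⟩, add_zero x⟩
  exact Filter.mem_of_superset (hopen.mem_nhds hmem) hsub

end Cone

variable (k : Type u) [Field k] (X : Scheme.{u}) [X.Over (Spec (CommRingCat.of k))]
  [IsProper (X ↘ Spec (CommRingCat.of k))] [PicGrp.Law X]

/-- for `H` ample and `M` invertible, `[H] + t [M]` is in the ample cone for small `t ≥ 0`. -/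
theorem ample_add_small (H : X.Modules) (hH : CohB1.IsAmple H) (M : X.Modules)
    (hM : PicF.IsInvertible M) :
    ∃ ε : ℝ, 0 < ε ∧ ∀ t : ℝ, 0 ≤ t → t ≤ ε →
      NumR.clR k X H hH.1 + t • NumR.clR k X M hM ∈ NumR.ampleCone k X := by
  obtain ⟨n₀, hn₀, hva⟩ := Groth.Agent.H5.VAmple.eventually_isRelVeryAmplePn_tensor
    (X ↘ Spec (CommRingCat.of k)) H M hH hM
  have hA : CohB1.IsAmple (CohB1.tensorMod (CohB1.tensorPow H n₀) M) :=
    Groth.Agent.H5.VAmple.isAmple_of_isRelVeryAmplePn (X ↘ Spec (CommRingCat.of k)) _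
      (hva n₀ le_rfl)
  have hPn : PicF.IsInvertible (CohB1.tensorPow H n₀) := isInvertible_tensorPow hH.1 n₀
  have hcl : NumR.clR k X _ hA.1 = (n₀ : ℝ) • NumR.clR k X H hH.1 + NumR.clR k X M hM := by
    rw [clR_tensor hPn hM hA.1, clR_pow hH.1 n₀ hPn]
  have hn₀R : (0 : ℝ) < n₀ := by exact_mod_cast hn₀
  have hHmem : NumR.clR k X H hH.1 ∈ NumR.ampleCone k X :=
    ConvexCone.subset_hull ⟨H, hH.1, hH, rfl⟩
  have hAmem : NumR.clR k X _ hA.1 ∈ NumR.ampleCone k X :=
    ConvexCone.subset_hull ⟨_, hA.1, hA, rfl⟩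
  refine ⟨1 / n₀, by positivity, fun t ht0 ht => ?_⟩
  rcases ht0.eq_or_lt with h0 | htpos
  · rw [← h0, zero_smul, add_zero]
    exact hHmem
  · have hdecomp : NumR.clR k X H hH.1 + t • NumR.clR k X M hM =
        (1 - t * n₀) • NumR.clR k X H hH.1 + t • NumR.clR k X _ hA.1 := by
      rw [hcl, smul_add, smul_smul, sub_smul, one_smul]
      abel
    rw [hdecomp]
    have h1 : 0 ≤ 1 - t * n₀ := by
      have : t * n₀ ≤ 1 / n₀ * n₀ := mul_le_mul_of_nonneg_right ht hn₀R.le
      rw [one_div, inv_mul_cancel₀ hn₀R.ne'] at this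
      linarith
    have h2 : t • NumR.clR k X _ hA.1 ∈ NumR.ampleCone k X :=
      (NumR.ampleCone k X).smul_mem htpos hAmem
    rcases h1.eq_or_lt with h | h
    · rw [← h, zero_smul, zero_add]
      exact h2
    · exact (NumR.ampleCone k X).add_mem ((NumR.ampleCone k X).smul_mem h hHmem) h2

/-- the ample cone is open in every direction of an invertible class. -/
theorem ampleCone_directional (x : NumR.N1R k X) (hx : x ∈ NumR.ampleCone k X)
    (M : X.Modules) (hM : PicF.IsInvertible M) :
    ∃ ε : ℝ, 0 < ε ∧ ∀ t : ℝ, |t| ≤ ε → x + t • NumR.clR k X M hM ∈ NumR.ampleCone k X := by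
  let T : ConvexCone ℝ (NumR.N1R k X) :=
    { carrier := {x | x ∈ NumR.ampleCone k X ∧ ∀ (M : X.Modules) (hM : PicF.IsInvertible M),
        ∃ ε : ℝ, 0 < ε ∧ ∀ t : ℝ, |t| ≤ ε → x + t • NumR.clR k X M hM ∈ NumR.ampleCone k X}
      smul_mem' := by
        rintro c hc x ⟨hxA, hx⟩
        refine ⟨(NumR.ampleCone k X).smul_mem hc hxA, fun M hM => ?_⟩
        obtain ⟨ε, hε, h⟩ := hx M hM
        refine ⟨c * ε, by positivity, fun t ht => ?_⟩
        have h1 : c • x + t • NumR.clR k X M hM = c • (x + (t / c) • NumR.clR k X M hM) := by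
          rw [smul_add, smul_smul, mul_div_cancel₀ _ hc.ne']
        rw [h1]
        apply (NumR.ampleCone k X).smul_mem hc
        apply h
        rw [abs_div, abs_of_pos hc, div_le_iff₀ hc]
        linarith [mul_comm c ε]
      add_mem' := by
        rintro x ⟨hxA, hx⟩ y ⟨hyA, -⟩
        refine ⟨(NumR.ampleCone k X).add_mem hxA hyA, fun M hM => ?_⟩
        obtain ⟨ε, hε, h⟩ := hx M hM
        refine ⟨ε, hε, fun t ht => ?_⟩
        have h1 : x + y + t • NumR.clR k X M hM = (x + t • NumR.clR k X M hM) + y := by abel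
        rw [h1]
        exact (NumR.ampleCone k X).add_mem (h t ht) hyA }
  have hle : NumR.ampleCone k X ≤ T := by
    apply ConvexCone.hull_min
    rintro _ ⟨H, hHinv, hH, rfl⟩
    refine ⟨ConvexCone.subset_hull ⟨H, hHinv, hH, rfl⟩, fun M hM => ?_⟩
    obtain ⟨M', hM', ⟨eM⟩⟩ := Groth.Agent.H5.Glue.exists_inverse M hM
    obtain ⟨ε₁, hε₁, h₁⟩ := ample_add_small k X H hH M hM
    obtain ⟨ε₂, hε₂, h₂⟩ := ample_add_small k X H hH M' hM'
    refine ⟨min ε₁ ε₂, lt_min hε₁ hε₂, fun t ht => ?_⟩
    rcases le_total 0 t with h0 | h0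
    · apply h₁ t h0
      rw [abs_of_nonneg h0] at ht
      exact ht.trans (min_le_left _ _)
    · have h3 := h₂ (-t) (by linarith) (by
        rw [abs_of_nonpos h0] at ht
        exact ht.trans (min_le_right _ _))
      rw [clR_inverse hM hM' eM, smul_neg, neg_smul, neg_neg] at h3
      exact h3
  exact (hle hx).2 M hM

/-- **the ample cone is open.** -/
theorem isOpen_ampleCone [Module.Finite ℝ (NumR.N1R k X)] :
    IsOpen (NumR.ampleCone k X : Set (NumR.N1R k X)) := by
  classical
  -- a finite spanning family of invertible classes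
  have hfg : (Submodule.span ℝ {x : NumR.N1R k X | ∃ (L : X.Modules) (hL : PicF.IsInvertible L),
      x = NumR.clR k X L hL}).FG := by
    rw [NumR.span_clR]
    exact Module.Finite.fg_top
  obtain ⟨s', hs's, hspan⟩ := (Submodule.fg_span_iff_fg_span_finset_subset _).mp hfg
  rw [NumR.span_clR] at hspan
  refine isOpen_of_directional (NumR.ampleCone k X) (fun j : s' => (j : NumR.N1R k X)) ?_ ?_
  · rw [Subtype.range_coe_subtype]
    simpa using hspan.symm
  · intro x hx j
    obtain ⟨M, hM, hj⟩ := hs's j.2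
    rw [hj]
    exact ampleCone_directional k X x hx M hM

end Groth.Agent.H5.NumRS
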