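import Mathlib
import Groth.Prelude.Def_NumR
import Groth.Agent.Lib.Helper5.NumRS.D
import Groth.Agent.Lib.Helper5.IntN.Kod4
import Groth.Agent.Lib.Lead.Curve.InvMono

/-!
# The big cone: `Big = Amp + Eff`, `Big = int Psef`, `Psef = closure Big` (S19739, S19740)
-/

set_option autoImplicit false
set_option linter.style.haveILetI false
universe u
open CategoryTheory CategoryTheory.Limits AlgebraicGeometry TopologicalSpace Opposite
open scoped Pointwise

namespace Groth.Agent.H5.NumRS

open Groth.Agent.LD Groth.Agent.LD.QC Groth.Agent.H5.IntN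

section modules

variable {X : Scheme.{u}} [IsIntegral X]

/-- bigness of an invertible module, in the form: every ample module embeds in a positive power. -/
def IsBigMod (L : X.Modules) : Prop :=
  ∀ A : X.Modules, CohB1.IsAmple A → ∃ (m : ℕ) (φ : A ⟶ CohB1.tensorPow L m), 0 < m ∧ Mono φ

/-- powers of a nonzero section are monomorphisms `O → E^m`. -/
lemma exists_mono_unit_tensorPow {E : X.Modules} (hE : PicF.IsInvertible E) (s : unitMod X ⟶ E)
    (hs : s ≠ 0) : ∀ m : ℕ, ∃ ψ : unitMod X ⟶ CohB1.tensorPow E m, Mono ψ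
  | 0 => by
    change ∃ ψ : unitMod X ⟶ unitMod X, Mono ψ
    exact ⟨𝟙 _, inferInstance⟩
  | m + 1 => by
    obtain ⟨ψ, hψ⟩ := exists_mono_unit_tensorPow hE s hs m
    haveI := hψ
    haveI : Mono s := Curve.mono_of_ne_zero (isInvertible_unit X) hE s hs
    haveI := mono_tensorMap_of_isInvertible ψ (unitMod X) (isInvertible_unit X)
    haveI := mono_tensorMap_left_of_isFinLocFree s (CohB1.tensorPow E m)
      (Curve.isFinLocFree_of_rank ((isInvertible_iff _).mp (isInvertible_tensorPow hE m)))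
    change ∃ ψ : unitMod X ⟶ CohB1.tensorMod (CohB1.tensorPow E m) E, Mono ψ
    exact ⟨(SecTwist.unitorR (unitMod X)).inv ≫ KoszTw.tensorMap ψ (𝟙 (unitMod X)) ≫
      KoszTw.tensorMap (𝟙 (CohB1.tensorPow E m)) s, inferInstance⟩

/-- an ample module is big. -/
theorem isBigMod_of_isAmple [QuasiSeparatedSpace X] {L : X.Modules} (hL : CohB1.IsAmple L) :
    IsBigMod L := by
  intro A hA
  obtain ⟨A', hA', ⟨e⟩⟩ := Groth.Agent.H5.Glue.exists_inverse A hA.1
  obtain ⟨n₀, hn₀⟩ := exists_section_ne_zero_of_isAmple L hL A' hA'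
  obtain ⟨t, ht⟩ := hn₀ (n₀ + 1) (Nat.le_succ _)
  have hLn : PicF.IsInvertible (CohB1.tensorPow L (n₀ + 1)) := isInvertible_tensorPow hL.1 _
  have hAL : PicF.IsInvertible (CohB1.tensorMod A' (CohB1.tensorPow L (n₀ + 1))) :=
    isInvertible_tensorMod hA' hLn
  haveI : Mono t := Curve.mono_of_ne_zero (isInvertible_unit X) hAL t ht
  haveI := mono_tensorMap_left_of_isFinLocFree t A
    (Curve.isFinLocFree_of_rank ((isInvertible_iff _).mp hA.1))
  haveI := qc_of_isInvertible A hA.1
  haveI := qc_of_isInvertible A' hA'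
  haveI := qc_of_isInvertible _ hLn
  refine ⟨n₀ + 1, (SecTwist.unitorR A).inv ≫ KoszTw.tensorMap (𝟙 A) t ≫
    (tensorAssoc A A' (CohB1.tensorPow L (n₀ + 1))).inv ≫
    (tensorIso' e (Iso.refl (CohB1.tensorPow L (n₀ + 1)))).hom ≫
    (unitorL' (CohB1.tensorPow L (n₀ + 1))).hom, Nat.succ_pos _, inferInstance⟩

/-- big ⊗ effective is big. -/
theorem isBigMod_tensor {L E : X.Modules} (hL : PicF.IsInvertible L) (hE : PicF.IsInvertible E)
    (hbig : IsBigMod L) (s : unitMod X ⟶ E) (hs : s ≠ 0) : IsBigMod (CohB1.tensorMod L E) := by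
  intro A hA
  obtain ⟨m, φ, hm, hφ⟩ := hbig A hA
  haveI := hφ
  obtain ⟨ψ, hψ⟩ := exists_mono_unit_tensorPow hE s hs m
  haveI := hψ
  have hLm : PicF.IsInvertible (CohB1.tensorPow L m) := isInvertible_tensorPow hL m
  haveI := mono_tensorMap_of_isInvertible φ (unitMod X) (isInvertible_unit X)
  haveI := mono_tensorMap_left_of_isFinLocFree ψ (CohB1.tensorPow L m)
    (Curve.isFinLocFree_of_rank ((isInvertible_iff _).mp hLm))
  haveI := qc_of_isInvertible L hL
  haveI := qc_of_isInvertible E hE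
  refine ⟨m, (SecTwist.unitorR A).inv ≫ KoszTw.tensorMap φ (𝟙 (unitMod X)) ≫
    KoszTw.tensorMap (𝟙 (CohB1.tensorPow L m)) ψ ≫ (tensorPowTensor L E m).hom, hm,
    inferInstance⟩

/-- a big invertible module is, up to a positive multiple, ample plus effective. -/
theorem exists_eff_of_isBigMod {L H : X.Modules} (hL : PicF.IsInvertible L)
    (hH : CohB1.IsAmple H) (hbig : IsBigMod L) :
    ∃ (m : ℕ) (H' : X.Modules) (_ : PicF.IsInvertible H')
      (_ : CohB1.tensorMod H H' ≅ unitMod X)
      (s : unitMod X ⟶ CohB1.tensorMod (CohB1.tensorPow L m) H'), 0 < m ∧ s ≠ 0 := by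
  obtain ⟨m, φ, hm, hφ⟩ := hbig H hH
  haveI := hφ
  obtain ⟨H', hH', ⟨e⟩⟩ := Groth.Agent.H5.Glue.exists_inverse H hH.1
  haveI := mono_tensorMap_of_isInvertible φ H' hH'
  refine ⟨m, H', hH', e, e.inv ≫ KoszTw.tensorMap φ (𝟙 H'), hm, fun h0 => ?_⟩
  haveI : Mono (e.inv ≫ KoszTw.tensorMap φ (𝟙 H')) := inferInstance
  have hz : IsZero (unitMod X) := by
    rw [IsZero.iff_id_eq_zero]
    rw [← cancel_mono (e.inv ≫ KoszTw.tensorMap φ (𝟙 H')), h0, comp_zero, zero_comp]
  exact not_isZero_of_isInvertible (isInvertible_unit X) hz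

end modules

section cones

variable (k : Type u) [Field k] (X : Scheme.{u}) [X.Over (Spec (CommRingCat.of k))]
  [IsProper (X ↘ Spec (CommRingCat.of k))] [IsIntegral X] [PicGrp.Law X]

/-- the big cone: positive real combinations of classes of big invertible modules. -/
noncomputable def bigCone : ConvexCone ℝ (NumR.N1R k X) :=
  NumR.coneOf k X (fun L : X.Modules => IsBigMod L)

variable {k X}

lemma clR_mem_bigCone {L : X.Modules} (hL : PicF.IsInvertible L) (hbig : IsBigMod L) :
    NumR.clR k X L hL ∈ bigCone k X :=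
  ConvexCone.subset_hull ⟨L, hL, hbig, rfl⟩

lemma clR_mem_ampleCone {H : X.Modules} (hH : CohB1.IsAmple H) :
    NumR.clR k X H hH.1 ∈ NumR.ampleCone k X :=
  ConvexCone.subset_hull ⟨H, hH.1, hH, rfl⟩

lemma clR_mem_effCone {E : X.Modules} (hE : PicF.IsInvertible E) (s : unitMod X ⟶ E)
    (hs : s ≠ 0) : NumR.clR k X E hE ∈ NumR.effCone k X :=
  ConvexCone.subset_hull ⟨E, hE, ⟨s, hs⟩, rfl⟩

variable (k X)

theorem ampleCone_le_bigCone : NumR.ampleCone k X ≤ bigCone k X := by
  haveI : IsNoetherian X := Curve2.isNoetherian_of_proper k X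
  apply ConvexCone.hull_min
  rintro _ ⟨H, hHinv, hH, rfl⟩
  exact clR_mem_bigCone hHinv (isBigMod_of_isAmple hH)

theorem ampleCone_le_effCone : NumR.ampleCone k X ≤ NumR.effCone k X := by
  haveI : IsNoetherian X := Curve2.isNoetherian_of_proper k X
  apply ConvexCone.hull_min
  rintro _ ⟨H, hHinv, hH, rfl⟩
  obtain ⟨n₀, hn₀⟩ := exists_section_tensorPow_ne_zero H hH
  obtain ⟨t, ht⟩ := hn₀ (n₀ + 1) (Nat.le_succ _)
  have hP := isInvertible_tensorPow hHinv (n₀ + 1)
  have hpos : (0 : ℝ) < ((n₀ + 1 : ℕ) : ℝ) := by positivity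
  have h1 : NumR.clR k X H hHinv = (1 / ((n₀ + 1 : ℕ) : ℝ)) • NumR.clR k X _ hP := by
    rw [clR_pow hHinv _ hP, smul_smul, one_div, inv_mul_cancel₀ hpos.ne', one_smul]
  rw [h1]
  exact (NumR.effCone k X).smul_mem (by positivity) (clR_mem_effCone hP t ht)

theorem bigCone_le_add (H : X.Modules) (hH : CohB1.IsAmple H) :
    bigCone k X ≤ NumR.ampleCone k X + NumR.effCone k X := by
  apply ConvexCone.hull_min
  rintro _ ⟨L, hL, hbig, rfl⟩
  obtain ⟨m, H', hH', e, s, hm, hs⟩ := exists_eff_of_isBigMod hL hH hbig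
  have hLm := isInvertible_tensorPow hL m
  have hE : PicF.IsInvertible (CohB1.tensorMod (CohB1.tensorPow L m) H') :=
    isInvertible_tensorMod hLm hH'
  have h1 : NumR.clR k X _ hE = (m : ℝ) • NumR.clR k X L hL - NumR.clR k X H hH.1 := by
    rw [clR_tensor hLm hH' hE, clR_pow hL m hLm, clR_inverse hH.1 hH' e, sub_eq_add_neg]
  have hmR : (0 : ℝ) < m := by exact_mod_cast hm
  refine ConvexCone.mem_add.mpr ⟨(1 / (m : ℝ)) • NumR.clR k X H hH.1,
    (NumR.ampleCone k X).smul_mem (by positivity) (clR_mem_ampleCone hH),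
    (1 / (m : ℝ)) • NumR.clR k X _ hE,
    (NumR.effCone k X).smul_mem (by positivity) (clR_mem_effCone hE s hs), ?_⟩
  rw [h1, ← smul_add, add_sub_cancel, smul_smul, one_div, inv_mul_cancel₀ hmR.ne', one_smul]

variable {k X}

theorem exists_big_add_nsmul {L E : X.Modules} (hL : PicF.IsInvertible L)
    (hE : PicF.IsInvertible E) (hbig : IsBigMod L) (s : unitMod X ⟶ E) (hs : s ≠ 0) :
    ∀ n : ℕ, ∃ (M : X.Modules) (hM : PicF.IsInvertible M), IsBigMod M ∧
      NumR.clR k X M hM = NumR.clR k X L hL + (n : ℝ) • NumR.clR k X E hE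
  | 0 => ⟨L, hL, hbig, by simp⟩
  | n + 1 => by
    obtain ⟨M, hM, hMbig, hcl⟩ := exists_big_add_nsmul hL hE hbig s hs n
    refine ⟨CohB1.tensorMod M E, isInvertible_tensorMod hM hE, isBigMod_tensor hM hE hMbig s hs, ?_⟩
    rw [clR_tensor hM hE _, hcl]
    push_cast
    rw [add_smul, one_smul, add_assoc]

theorem add_smul_mem_bigCone {L E : X.Modules} (hL : PicF.IsInvertible L)
    (hE : PicF.IsInvertible E) (hbig : IsBigMod L) (s : unitMod X ⟶ E) (hs : s ≠ 0) (t : ℝ)
    (ht : 0 ≤ t) : NumR.clR k X L hL + t • NumR.clR k X E hE ∈ bigCone k X := by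
  rcases ht.eq_or_lt with rfl | htpos
  · rw [zero_smul, add_zero]
    exact clR_mem_bigCone hL hbig
  obtain ⟨n, hn⟩ := exists_nat_gt t
  have hnpos : (0 : ℝ) < n := htpos.trans hn
  obtain ⟨M, hM, hMbig, hcl⟩ := exists_big_add_nsmul (k := k) hL hE hbig s hs n
  have h1 : NumR.clR k X L hL + t • NumR.clR k X E hE =
      (1 - t / n) • NumR.clR k X L hL + (t / n) • NumR.clR k X M hM := by
    rw [hcl, smul_add, smul_smul, div_mul_cancel₀ _ hnpos.ne', ← add_assoc, ← add_smul,
      sub_add_cancel, one_smul]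
  rw [h1]
  refine (bigCone k X).add_mem ((bigCone k X).smul_mem ?_ (clR_mem_bigCone hL hbig))
    ((bigCone k X).smul_mem (by positivity) (clR_mem_bigCone hM hMbig))
  rw [sub_pos, div_lt_one hnpos]
  exact hn

variable (k X)

theorem bigCone_add_effCone : ∀ b ∈ bigCone k X, ∀ e ∈ NumR.effCone k X, b + e ∈ bigCone k X := by
  -- first for a generator of the effective cone
  have key : ∀ (E : X.Modules) (hE : PicF.IsInvertible E) (s : unitMod X ⟶ E), s ≠ 0 →
      ∀ b ∈ bigCone k X, b + NumR.clR k X E hE ∈ bigCone k X := by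
    intro E hE s hs
    let T : ConvexCone ℝ (NumR.N1R k X) :=
      { carrier := {b | b ∈ bigCone k X ∧ ∀ t : ℝ, 0 ≤ t → b + t • NumR.clR k X E hE ∈ bigCone k X}
        smul_mem' := by
          rintro c hc b ⟨hb, hbt⟩
          refine ⟨(bigCone k X).smul_mem hc hb, fun t ht => ?_⟩
          have h1 : c • b + t • NumR.clR k X E hE = c • (b + (t / c) • NumR.clR k X E hE) := by
            rw [smul_add, smul_smul, mul_div_cancel₀ _ hc.ne']
          rw [h1]
          exact (bigCone k X).smul_mem hc (hbt _ (by positivity))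
        add_mem' := by
          rintro b ⟨hb, hbt⟩ b' ⟨hb', -⟩
          refine ⟨(bigCone k X).add_mem hb hb', fun t ht => ?_⟩
          have h1 : b + b' + t • NumR.clR k X E hE = (b + t • NumR.clR k X E hE) + b' := by abel
          rw [h1]
          exact (bigCone k X).add_mem (hbt t ht) hb' }
    have hle : bigCone k X ≤ T := by
      apply ConvexCone.hull_min
      rintro _ ⟨L, hL, hbig, rfl⟩
      exact ⟨clR_mem_bigCone hL hbig, fun t ht => add_smul_mem_bigCone hL hE hbig s hs t ht⟩
    intro b hb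
    have h2 := (hle hb).2 1 zero_le_one
    rwa [one_smul] at h2
  let S : ConvexCone ℝ (NumR.N1R k X) :=
    { carrier := {e | ∀ b ∈ bigCone k X, b + e ∈ bigCone k X}
      smul_mem' := by
        intro c hc e he b hb
        have h1 : b + c • e = c • (c⁻¹ • b + e) := by
          rw [smul_add, smul_smul, mul_inv_cancel₀ hc.ne', one_smul]
        rw [h1]
        exact (bigCone k X).smul_mem hc (he _ ((bigCone k X).smul_mem (inv_pos.mpr hc) hb))
      add_mem' := by
        intro e he e' he' b hb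
        rw [← add_assoc]
        exact he' _ (he _ hb) }
  have hle : NumR.effCone k X ≤ S := by
    apply ConvexCone.hull_min
    rintro _ ⟨E, hE, ⟨s, hs⟩, rfl⟩
    exact key E hE s hs
  intro b hb e he
  exact hle he b hb

/-- **S19739**: a class is big iff it is ample plus effective. -/
theorem mem_bigCone_iff (H : X.Modules) (hH : CohB1.IsAmple H) (x : NumR.N1R k X) :
    x ∈ bigCone k X ↔ ∃ a ∈ NumR.ampleCone k X, x - a ∈ NumR.effCone k X := by
  constructor
  · intro hx
    obtain ⟨a, ha, e, he, rfl⟩ := ConvexCone.mem_add.mp (bigCone_le_add k X H hH hx)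
    exact ⟨a, ha, by rwa [add_sub_cancel_left]⟩
  · rintro ⟨a, ha, he⟩
    have h1 : x = a + (x - a) := by abel
    rw [h1]
    exact bigCone_add_effCone k X a (ampleCone_le_bigCone k X ha) _ he

theorem bigCone_le_effCone (H : X.Modules) (hH : CohB1.IsAmple H) :
    bigCone k X ≤ NumR.effCone k X := by
  intro x hx
  obtain ⟨a, ha, e, he, rfl⟩ := ConvexCone.mem_add.mp (bigCone_le_add k X H hH hx)
  exact (NumR.effCone k X).add_mem (ampleCone_le_effCone k X ha) he

theorem isOpen_bigCone [Module.Finite ℝ (NumR.N1R k X)] (H : X.Modules) (hH : CohB1.IsAmple H) :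
    IsOpen (bigCone k X : Set (NumR.N1R k X)) := by
  haveI : IsTopologicalAddGroup (NumR.N1R k X) := IsModuleTopology.topologicalAddGroup ℝ _
  have h1 : (bigCone k X : Set (NumR.N1R k X)) =
      (NumR.ampleCone k X : Set (NumR.N1R k X)) + (NumR.effCone k X : Set (NumR.N1R k X)) := by
    ext x
    constructor
    · intro hx
      obtain ⟨a, ha, e, he, rfl⟩ := ConvexCone.mem_add.mp (bigCone_le_add k X H hH hx)
      exact Set.add_mem_add ha he
    · rintro ⟨a, ha, e, he, rfl⟩
      exact bigCone_add_effCone k X a (ampleCone_le_bigCone k X ha) e he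
  rw [h1]
  exact (isOpen_ampleCone k X).add_right

/-- **S19740**. -/
theorem bigCone_eq_interior_psefCone [Module.Finite ℝ (NumR.N1R k X)] (H : X.Modules)
    (hH : CohB1.IsAmple H) :
    (bigCone k X : Set (NumR.N1R k X)) = interior (NumR.psefCone k X) ∧
      NumR.psefCone k X = closure (bigCone k X : Set (NumR.N1R k X)) := by
  haveI : IsTopologicalAddGroup (NumR.N1R k X) := IsModuleTopology.topologicalAddGroup ℝ _
  have hhA := clR_mem_ampleCone (k := k) hH
  set h := NumR.clR k X H hH.1 with hh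
  have hsub : (bigCone k X : Set (NumR.N1R k X)) ⊆ NumR.psefCone k X := fun x hx =>
    subset_closure (bigCone_le_effCone k X H hH hx)
  refine ⟨Set.Subset.antisymm (interior_maximal hsub (isOpen_bigCone k X H hH)) ?_,
    Set.Subset.antisymm ?_ (closure_minimal hsub isClosed_closure)⟩
  · intro x hx
    have hcont : Continuous (fun t : ℝ => x - t • h) := by fun_prop
    have hopen : IsOpen ((fun t : ℝ => x - t • h) ⁻¹' interior (NumR.psefCone k X)) :=
      isOpen_interior.preimage hcont
    have h0 : (0 : ℝ) ∈ (fun t : ℝ => x - t • h) ⁻¹' interior (NumR.psefCone k X) := by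
      simpa using hx
    obtain ⟨ε, hε, hball⟩ := Metric.isOpen_iff.mp hopen 0 h0
    have hmem : x - (ε / 2) • h ∈ interior (NumR.psefCone k X) := by
      apply hball
      rw [Metric.mem_ball, Real.dist_eq, sub_zero, abs_of_pos (by positivity)]
      linarith
    have hps : x - (ε / 2) • h ∈ closure (NumR.effCone k X : Set (NumR.N1R k X)) :=
      interior_subset hmem
    have hU : IsOpen {y : NumR.N1R k X | x - y ∈ NumR.ampleCone k X} :=
      (isOpen_ampleCone k X).preimage (by fun_prop)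
    have hxU : x - (ε / 2) • h ∈ {y : NumR.N1R k X | x - y ∈ NumR.ampleCone k X} := by
      change x - (x - (ε / 2) • h) ∈ NumR.ampleCone k X
      rw [sub_sub_cancel]
      exact (NumR.ampleCone k X).smul_mem (by positivity) hhA
    obtain ⟨e, heU, heE⟩ := mem_closure_iff.mp hps _ hU hxU
    have h1 : x = (x - e) + e := by abel
    rw [h1]
    exact bigCone_add_effCone k X _ (ampleCone_le_bigCone k X heU) _ heE
  · apply closure_minimal _ isClosed_closure
    intro e he
    have hlim : Filter.Tendsto (fun n : ℕ => e + (1 / ((n : ℝ) + 1)) • h) Filter.atTop (nhds e) := by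
      have h2 := (tendsto_const_nhds (x := e) (f := (Filter.atTop : Filter ℕ))).add
        ((tendsto_one_div_add_atTop_nhds_zero_nat (𝕜 := ℝ)).smul_const h)
      simpa using h2
    apply mem_closure_of_tendsto hlim
    filter_upwards with n
    rw [add_comm]
    exact bigCone_add_effCone k X _
      (ampleCone_le_bigCone k X ((NumR.ampleCone k X).smul_mem (by positivity) hhA)) _ he

end cones

end Groth.Agent.H5.NumRS
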