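import Mathlib

/-!
# Dimension of proper closed subsets of an irreducible space
-/

set_option autoImplicit false
open TopologicalSpace Order

namespace Groth.Agent.H5.NumRS

/-- a proper closed subset of an irreducible space of dimension two has dimension at most one. -/
theorem dim_le_one_of_ne_univ {T : Type*} [TopologicalSpace T] [IrreducibleSpace T]
    (hT : topologicalKrullDim T = 2) (Z : Set T) (hZ : IsClosed Z) (hne : Z ≠ Set.univ) :
    topologicalKrullDim Z ≤ 1 := by
  have hlt : topologicalKrullDim Z < ((2 : ℕ) : WithBot ℕ∞) := by
    unfold topologicalKrullDim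
    rw [krullDim_lt_coe_iff]
    intro l
    let f : IrreducibleCloseds Z → IrreducibleCloseds T :=
      IrreducibleCloseds.map (Subtype.val : Z → T) continuous_subtype_val
    have hf : StrictMono f := IrreducibleCloseds.map_strictMono_of_isInducing
      Topology.IsInducing.subtypeVal
    let top : IrreducibleCloseds T :=
      ⟨Set.univ, (IrreducibleSpace.isIrreducible_univ T), isClosed_univ⟩
    have hlast : (l.map f hf).last < top := by
      rw [lt_iff_le_and_ne]
      refine ⟨fun x _ => Set.mem_univ x, ?_⟩
      intro heq
      apply hne
      have h1 : ((l.map f hf).last : Set T) ⊆ Z := by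
        change closure (Subtype.val '' (l.last : Set Z)) ⊆ Z
        apply closure_minimal _ hZ
        rintro _ ⟨z, -, rfl⟩
        exact z.2
      rw [heq] at h1
      exact Set.eq_univ_of_univ_subset h1
    have h2 := LTSeries.length_le_krullDim ((l.map f hf).snoc top hlast)
    have h3 : krullDim (IrreducibleCloseds T) = ((2 : ℕ) : WithBot ℕ∞) := hT
    rw [h3, RelSeries.snoc_length, LTSeries.map_length] at h2
    have h4 : l.length + 1 ≤ 2 := by exact_mod_cast h2
    omega
  rcases h : topologicalKrullDim Z with _ | n
  · exact bot_le
  · rw [h] at hlt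
    have h1 : n < ((2 : ℕ) : ℕ∞) := WithBot.coe_lt_coe.mp hlt
    have h2 : n ≤ 1 := by
      have : n < 1 + 1 := by simpa [one_add_one_eq_two] using h1
      exact (ENat.lt_add_one_iff (by simp)).mp this
    exact WithBot.coe_le_coe.mpr h2

end Groth.Agent.H5.NumRS
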