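import Mathlib
import Groth.Prelude
import Groth.Agent.Lib.Helper5.Curve6.IdealInv
import Groth.Agent.Lib.Helper3.CA.ABufd2
import Groth.Agent.Lib.Lead.QC.IdealMod
import Groth.Agent.Lib.Lead.Curve.Proper
import Groth.Agent.Lib.Helper5.Curve3.Proj
import Groth.Agent.Lib.Helper5.Curve2.D

/-!
# Integral curves on a regular surface are effective Cartier divisors
-/

set_option autoImplicit false
set_option linter.style.haveILetI false
universe u
open CategoryTheory CategoryTheory.Limits AlgebraicGeometry TopologicalSpace Opposite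

namespace Groth.Agent.H5.NumRS

open Groth.Agent.H5.Curve3 Groth.Agent.H5.Curve6

section algebra

/-- in a factorial Noetherian local domain of dimension at most two, a nonzero prime ideal
different from the maximal ideal is principal. -/
theorem isPrincipal_of_isPrime_of_dim_le_two (R : Type*) [CommRing R] [IsDomain R]
    [IsLocalRing R] [IsNoetherianRing R] [UniqueFactorizationMonoid R]
    (hdim : ringKrullDim R ≤ 2) (P : Ideal R) [P.IsPrime] (h0 : P ≠ ⊥)
    (hm : P ≠ IsLocalRing.maximalIdeal R) : P.IsPrincipal := by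
  obtain ⟨p, hpP, hp⟩ := Ideal.IsPrime.exists_mem_prime_of_ne_bot inferInstance h0
  have hQprime : (Ideal.span {p}).IsPrime :=
    (Ideal.span_singleton_prime hp.ne_zero).mpr hp
  have hQle : Ideal.span {p} ≤ P := (Ideal.span_singleton_le_iff_mem _).mpr hpP
  by_cases hQP : Ideal.span {p} = P
  · exact ⟨⟨p, hQP.symm⟩⟩
  exfalso
  have hlt1 : Ideal.span {p} < P := lt_of_le_of_ne hQle hQP
  have hlt2 : P < IsLocalRing.maximalIdeal R :=
    lt_of_le_of_ne (IsLocalRing.le_maximalIdeal (Ideal.IsPrime.ne_top inferInstance)) hm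
  have hbot : (⊥ : Ideal R) < Ideal.span {p} := by
    rw [bot_lt_iff_ne_bot]
    intro h
    rw [Ideal.span_singleton_eq_bot] at h
    exact hp.ne_zero h
  haveI : (⊥ : Ideal R).IsPrime := Ideal.isPrime_bot
  have h1 := Ideal.height_add_one_le_of_lt_of_isPrime hbot
  have h2 := Ideal.height_add_one_le_of_lt_of_isPrime hlt1
  have h3 := Ideal.height_add_one_le_of_lt_of_isPrime hlt2
  have h4 : (IsLocalRing.maximalIdeal R).height ≤ 2 := by
    have := Ideal.height_le_ringKrullDim_of_ne_top
      (I := IsLocalRing.maximalIdeal R) (Ideal.IsPrime.ne_top inferInstance)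
    have h5 : ((IsLocalRing.maximalIdeal R).height : WithBot ℕ∞) ≤ ((2 : ℕ∞) : WithBot ℕ∞) :=
      this.trans hdim
    exact WithBot.coe_le_coe.mp h5
  have h6 : (1 : ℕ∞) ≤ (Ideal.span {p}).height := le_trans (by simp) h1
  have h7 : (2 : ℕ∞) ≤ P.height := by
    refine le_trans ?_ h2
    have h12 : (2 : ℕ∞) = 1 + 1 := by norm_num
    rw [h12]
    gcongr
  have h8 : (3 : ℕ∞) ≤ (IsLocalRing.maximalIdeal R).height := by
    refine le_trans ?_ h3
    have h23 : (3 : ℕ∞) = 2 + 1 := by norm_num
    rw [h23]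
    gcongr
  have : (3 : ℕ∞) ≤ 2 := h8.trans h4
  exact absurd this (by decide)

end algebra

variable {X : Scheme.{u}}

/-- **a nonzero ideal sheaf on a quasi-compact integral locally Noetherian scheme whose
extensions to the local rings at the closed points are principal is an effective Cartier
divisor.** -/
theorem isEffCartierIdeal_of_isPrincipal_map [IsIntegral X] [IsLocallyNoetherian X]
    [CompactSpace X] (I : X.IdealSheafData) (hI : I ≠ ⊥)
    (hpr : ∀ (y : X), IsClosed ({y} : Set X) → ∀ (U : X.Opens) (hU : IsAffineOpen U)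
      (hyU : y ∈ U),
      letI : Algebra Γ(X, U) (X.presheaf.stalk y) :=
        TopCat.Presheaf.algebra_section_stalk X.presheaf ⟨y, hyU⟩
      ((I.ideal ⟨U, hU⟩).map (algebraMap Γ(X, U) (X.presheaf.stalk y))).IsPrincipal) :
    BlowUp.IsEffCartierIdeal I := by
  intro x
  obtain ⟨y, hyx, hycl⟩ := IsClosed.exists_closed_singleton (X := X)
    (isClosed_closure (s := ({x} : Set X))) ⟨x, subset_closure rfl⟩
  have hspec : x ⤳ y := specializes_iff_mem_closure.mpr hyx
  obtain ⟨_, ⟨U, hU, rfl⟩, hxU, -⟩ :=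
    X.isBasis_affineOpens.exists_subset_of_mem_open (Set.mem_univ y) isOpen_univ
  haveI : IsNoetherianRing Γ(X, U) := IsLocallyNoetherian.component_noetherian ⟨U, hU⟩
  letI : Algebra Γ(X, U) (X.presheaf.stalk y) :=
    TopCat.Presheaf.algebra_section_stalk X.presheaf ⟨y, hxU⟩
  haveI hloc : IsLocalization.AtPrime (X.presheaf.stalk y)
      (hU.primeIdealOf ⟨y, hxU⟩).asIdeal := hU.isLocalization_stalk ⟨y, hxU⟩
  have hfg : (I.ideal ⟨U, hU⟩).FG := (isNoetherianRing_iff_ideal_fg _).mp inferInstance _
  obtain ⟨g, hg, a, haI, hgen, hmul⟩ :=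
    exists_smul_le_span_ideal (hU.primeIdealOf ⟨y, hxU⟩).asIdeal (I.ideal ⟨U, hU⟩) hfg
      (X.presheaf.stalk y) (hpr y hycl U hU hxU)
  have hyg : y ∈ X.basicOpen g := (mem_basicOpen_iff_notMem_primeIdealOf hU g y hxU).mpr hg
  have hxg : x ∈ X.basicOpen g := hspec.mem_open (X.basicOpen g).2 hyg
  have hne : I.ideal ⟨U, hU⟩ ≠ ⊥ := fun h0 =>
    hI (ideal_eq_bot_of_ideal_eq_bot I ⟨U, hU⟩ ⟨y, hxU⟩ h0)
  refine ⟨X.affineBasicOpen (U := ⟨U, hU⟩) g, hxg,
    X.presheaf.map (homOfLE (X.basicOpen_le g)).op a, ?_, ?_⟩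
  · haveI : Nonempty (X.basicOpen g) := ⟨⟨y, hyg⟩⟩
    haveI : IsDomain Γ(X, X.basicOpen g) := inferInstance
    change (X.presheaf.map (homOfLE (X.basicOpen_le g)).op).hom a ∈
      nonZeroDivisors Γ(X, X.basicOpen g)
    apply mem_nonZeroDivisors_of_ne_zero
    intro h0
    apply hne
    have h1 : algebraMap Γ(X, U) (X.presheaf.stalk y) a =
        X.presheaf.germ (X.basicOpen g) y hyg
          (X.presheaf.map (homOfLE (X.basicOpen_le g)).op a) := by
      rw [TopCat.Presheaf.germ_res_apply]
      rfl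
    rw [h1, h0, map_zero] at hgen
    have h2 : Ideal.span {(0 : X.presheaf.stalk y)} = ⊥ := by simp
    rw [h2, Ideal.map_eq_bot_iff_le_ker] at hgen
    rw [eq_bot_iff]
    intro b hb
    have h3 := hgen hb
    rw [RingHom.mem_ker] at h3
    rw [Ideal.mem_bot]
    have hinj : Function.Injective (algebraMap Γ(X, U) (X.presheaf.stalk y)) :=
      germ_injective_of_isIntegral X y hxU
    apply hinj
    rw [map_zero]
    exact h3
  · rw [← I.map_ideal_basicOpen ⟨U, hU⟩ g]
    apply le_antisymm
    · refine Ideal.map_le_iff_le_comap.mpr ?_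
      intro b hb
      obtain ⟨c, hc⟩ := hmul b hb
      rw [Ideal.mem_comap]
      have hu : IsUnit ((X.presheaf.map (homOfLE (X.basicOpen_le g)).op).hom g) :=
        X.toRingedSpace.isUnit_res_basicOpen g
      obtain ⟨w, hw⟩ := hu
      have h2 := congrArg (X.presheaf.map (homOfLE (X.basicOpen_le g)).op).hom hc
      rw [map_mul, map_mul, ← hw] at h2
      have h3 : (X.presheaf.map (homOfLE (X.basicOpen_le g)).op).hom b =
          (↑w⁻¹ * (X.presheaf.map (homOfLE (X.basicOpen_le g)).op).hom c) *
            (X.presheaf.map (homOfLE (X.basicOpen_le g)).op).hom a := by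
        rw [mul_assoc, ← h2, ← mul_assoc, Units.inv_mul, one_mul]
      rw [h3]
      exact Ideal.mul_mem_left _ _ (Ideal.subset_span rfl)
    · rw [Ideal.span_le, Set.singleton_subset_iff]
      exact Ideal.mem_map_of_mem _ haI

/-- on a regular integral locally Noetherian scheme of dimension at most two, the ideal of an
integral closed subscheme of dimension one is principal in the local ring of every closed
point. -/
theorem isPrincipal_map_of_curve [IsIntegral X] [IsLocallyNoetherian X]
    (hdim : topologicalKrullDim X ≤ 2)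
    (hreg : ∀ x : X, IsRegularLocalRing (X.presheaf.stalk x))
    (I : X.IdealSheafData) (hI : I ≠ ⊥) (hIint : IsIntegral I.subscheme)
    (hId : topologicalKrullDim (I.support : Set X) = 1)
    (y : X) (hy : IsClosed ({y} : Set X)) (U : X.Opens) (hU : IsAffineOpen U) (hyU : y ∈ U) :
    letI : Algebra Γ(X, U) (X.presheaf.stalk y) :=
      TopCat.Presheaf.algebra_section_stalk X.presheaf ⟨y, hyU⟩
    ((I.ideal ⟨U, hU⟩).map (algebraMap Γ(X, U) (X.presheaf.stalk y))).IsPrincipal := by
  letI : Algebra Γ(X, U) (X.presheaf.stalk y) :=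
    TopCat.Presheaf.algebra_section_stalk X.presheaf ⟨y, hyU⟩
  haveI hloc : IsLocalization.AtPrime (X.presheaf.stalk y)
      (hU.primeIdealOf ⟨y, hyU⟩).asIdeal := hU.isLocalization_stalk ⟨y, hyU⟩
  obtain ⟨P, hP⟩ : ∃ P : Ideal Γ(X, U), P = I.ideal ⟨U, hU⟩ := ⟨_, rfl⟩
  rw [← hP]
  -- membership in the support in terms of `P`
  have hsupp : ∀ (z : X) (hzU : z ∈ U), z ∈ I.support ↔
      P ≤ (hU.primeIdealOf ⟨z, hzU⟩).asIdeal := by
    intro z hzU
    rw [Scheme.IdealSheafData.mem_support_iff_of_mem (U := ⟨U, hU⟩) hzU,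
      Scheme.mem_zeroLocus_iff, hP]
    constructor
    · intro h f hf
      by_contra hnot
      exact h f hf ((mem_basicOpen_iff_notMem_primeIdealOf hU f z hzU).mpr hnot)
    · intro h f hf hzf
      exact (mem_basicOpen_iff_notMem_primeIdealOf hU f z hzU).mp hzf (h hf)
  by_cases hys : y ∈ I.support
  · have hPp : P ≤ (hU.primeIdealOf ⟨y, hyU⟩).asIdeal := (hsupp y hyU).mp hys
    have hPprime : P.IsPrime := by
      rw [hP, ← I.ker_subschemeι_app ⟨U, hU⟩]
      have hne : Nonempty ↥(I.subschemeι ⁻¹ᵁ U) := by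
        obtain ⟨y', hy'⟩ : y ∈ Set.range I.subschemeι := by
          rw [I.range_subschemeι]; exact hys
        exact ⟨⟨y', by
          change I.subschemeι y' ∈ U
          rw [hy']; exact hyU⟩⟩
      haveI : IsDomain Γ(I.subscheme, I.subschemeι ⁻¹ᵁ U) :=
        @IsIntegral.component_integral I.subscheme hIint (I.subschemeι ⁻¹ᵁ U) hne
      exact RingHom.ker_isPrime _
    have hdisj : Disjoint ((hU.primeIdealOf ⟨y, hyU⟩).asIdeal.primeCompl : Set Γ(X, U)) (P : Set Γ(X, U)) := by
      rw [Set.disjoint_left]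
      intro f hf hfP
      exact hf (hPp hfP)
    haveI hQprime : (P.map (algebraMap Γ(X, U) (X.presheaf.stalk y))).IsPrime :=
      IsLocalization.isPrime_of_isPrime_disjoint (hU.primeIdealOf ⟨y, hyU⟩).asIdeal.primeCompl _ P hPprime hdisj
    have hinj : Function.Injective (algebraMap Γ(X, U) (X.presheaf.stalk y)) :=
      germ_injective_of_isIntegral X y hyU
    have hPne : P ≠ ⊥ := fun h0 =>
      hI (ideal_eq_bot_of_ideal_eq_bot I ⟨U, hU⟩ ⟨y, hyU⟩ (hP ▸ h0))
    have hQne : P.map (algebraMap Γ(X, U) (X.presheaf.stalk y)) ≠ ⊥ := by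
      intro h0
      rw [Ideal.map_eq_bot_iff_le_ker] at h0
      apply hPne
      rw [eq_bot_iff]
      intro b hb
      have h3 := h0 hb
      rw [RingHom.mem_ker] at h3
      rw [Ideal.mem_bot]
      apply hinj
      rw [map_zero]
      exact h3
    have hQm : P.map (algebraMap Γ(X, U) (X.presheaf.stalk y)) ≠
        IsLocalRing.maximalIdeal (X.presheaf.stalk y) := by
      intro hQ
      have h1 := IsLocalization.under_map_of_isPrime_disjoint (hU.primeIdealOf ⟨y, hyU⟩).asIdeal.primeCompl
        (X.presheaf.stalk y) hPprime hdisj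
      rw [hQ, IsLocalization.AtPrime.under_maximalIdeal (X.presheaf.stalk y) (hU.primeIdealOf ⟨y, hyU⟩).asIdeal] at h1
      -- `P = (hU.primeIdealOf ⟨y, hyU⟩).asIdeal`, so the support meets `U` in `{y}`
      have hS : ∀ z : X, z ∈ I.support → z ∈ U → z = y := by
        intro z hzs hzU
        have h2 := (hsupp z hzU).mp hzs
        rw [← h1] at h2
        have hspec : y ⤳ z := by
          rw [specializes_iff_forall_open]
          intro s hs hzs'
          obtain ⟨f, hf1, hf2⟩ := hU.exists_basicOpen_le (V := ⟨s, hs⟩) ⟨z, hzs'⟩ hzU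
          apply hf1
          rw [mem_basicOpen_iff_notMem_primeIdealOf hU f y hyU]
          intro hfy
          exact (mem_basicOpen_iff_notMem_primeIdealOf hU f z hzU).mp hf2 (h2 hfy)
        have hz : z ∈ closure ({y} : Set X) := specializes_iff_mem_closure.mp hspec
        rw [hy.closure_eq] at hz
        exact hz
      have hirr : IsIrreducible (I.support : Set X) := by
        rw [← I.range_subschemeι, ← Set.image_univ]
        haveI := hIint
        exact (IrreducibleSpace.isIrreducible_univ I.subscheme).image _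
          I.subschemeι.continuous.continuousOn
      have hall : ∀ z : X, z ∈ I.support → z = y := by
        intro z hzs
        by_contra hne
        obtain ⟨w, hws, hwU, hwy⟩ := hirr.2 U ({y}ᶜ) U.2 hy.isOpen_compl ⟨y, hys, hyU⟩
          ⟨z, hzs, hne⟩
        exact hwy (hS w hws hwU)
      haveI : Subsingleton ↥(I.support : Set X) := by
        constructor
        rintro ⟨a, ha⟩ ⟨b, hb⟩
        exact Subtype.ext ((hall a ha).trans (hall b hb).symm)
      have := topologicalKrullDim_nonpos_of_subsingleton ↥(I.support : Set X)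
      rw [hId] at this
      exact absurd this (by decide)
    obtain ⟨-, hufd⟩ := Groth.Agent.H3.ABufd.main (X.presheaf.stalk y)
    have hdimR : ringKrullDim (X.presheaf.stalk y) ≤ 2 :=
      (Groth.Agent.LD.Curve.ringKrullDim_stalk_le X y).trans hdim
    exact isPrincipal_of_isPrime_of_dim_le_two (X.presheaf.stalk y) hdimR _ hQne hQm
  · have hnot : ¬ P ≤ (hU.primeIdealOf ⟨y, hyU⟩).asIdeal := fun h => hys ((hsupp y hyU).mpr h)
    obtain ⟨f, hfP, hfp⟩ := Set.not_subset.mp hnot
    have hu : IsUnit (algebraMap Γ(X, U) (X.presheaf.stalk y) f) :=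
      IsLocalization.map_units (X.presheaf.stalk y) (⟨f, hfp⟩ : (hU.primeIdealOf ⟨y, hyU⟩).asIdeal.primeCompl)
    have htop : P.map (algebraMap Γ(X, U) (X.presheaf.stalk y)) = ⊤ :=
      Ideal.eq_top_of_isUnit_mem _ (Ideal.mem_map_of_mem _ hfP) hu
    rw [htop]
    exact ⟨⟨1, Ideal.span_singleton_one.symm⟩⟩

/-- **an integral curve on a regular proper surface is an effective Cartier divisor**: its
ideal sheaf is an invertible module. -/
theorem isInvertible_idealMod_of_curve (k : Type u) [Field k] (X : Scheme.{u})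
    [X.Over (Spec (CommRingCat.of k))] [IsProper (X ↘ Spec (CommRingCat.of k))] [IsIntegral X]
    (hdim : topologicalKrullDim X = 2)
    (hreg : ∀ x : X, IsRegularLocalRing (X.presheaf.stalk x))
    (I : X.IdealSheafData) (hIint : IsIntegral I.subscheme)
    (hId : topologicalKrullDim (I.support : Set X) = 1) :
    BlowUp.IsEffCartierIdeal I ∧ PicF.IsInvertible (ClSub.idealMod I) := by
  haveI : IsNoetherian X := Groth.Agent.H5.Curve2.isNoetherian_of_proper k X
  have hI : I ≠ ⊥ := by
    intro h0
    have h1 : (I.support : Set X) = Set.univ := by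
      rw [h0, Scheme.IdealSheafData.support_bot]; rfl
    rw [h1] at hId
    have h2 : topologicalKrullDim ↥(Set.univ : Set X) = topologicalKrullDim X :=
      IsHomeomorph.topologicalKrullDim_eq _ (Homeomorph.Set.univ X).isHomeomorph
    rw [h2, hdim] at hId
    exact absurd hId (by decide)
  have hC : BlowUp.IsEffCartierIdeal I :=
    isEffCartierIdeal_of_isPrincipal_map I hI (fun y hy U hU hyU =>
      isPrincipal_map_of_curve (le_of_eq hdim) hreg I hI hIint hId y hy U hU hyU)
  exact ⟨hC, (Groth.Agent.LD.QC.isInvertible_idealMod_iff I).mpr hC⟩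

end Groth.Agent.H5.NumRS
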