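import Mathlib
import Groth.Prelude.Def_NumR
import Groth.Agent.Lib.Helper5.NumRS.Cart
import Groth.Agent.Lib.Helper5.NumRS.C
import Groth.Agent.Lib.Helper5.IntN.Cartier
import Groth.Agent.Lib.Helper5.IntN.Num6
import Groth.Agent.Lib.Lead.RR.StalkPush

/-!
# Pairing real classes with curves on a surface
-/

set_option autoImplicit false
set_option linter.style.haveILetI false
universe u
open CategoryTheory CategoryTheory.Limits AlgebraicGeometry TopologicalSpace Opposite

namespace Groth.Agent.H5.NumRS

open Groth.Agent.LD Groth.Agent.LD.QC Groth.Agent.H5.IntN Groth.Agent.H5.Curve3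
  Groth.Agent.H5.Curve6

section ass

variable {X : Scheme.{u}} [IsIntegral X]

/-- on an integral scheme, the points of the support of a nonzero ideal sheaf are not associated
points of the structure sheaf. -/
theorem not_isAssPoint_unit_of_mem_support (D : X.IdealSheafData) (hD : D ≠ ⊥) (x : X)
    (hx : x ∈ D.support) : ¬ Curv2.IsAssPoint (unitMod X) x := by
  intro hass
  obtain ⟨e⟩ := Groth.Agent.LD.RRS.SP.nonempty_unit_stalk_equiv x
  have h1 : IsAssociatedPrime (IsLocalRing.maximalIdeal (X.presheaf.stalk x))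
      (X.presheaf.stalk x) := (LinearEquiv.isAssociatedPrime_iff e).mp hass
  obtain ⟨-, r, hr⟩ := h1
  have hm : IsLocalRing.maximalIdeal (X.presheaf.stalk x) = ⊥ := by
    rw [eq_bot_iff]
    intro a ha
    rw [hr, Ideal.mem_radical_iff] at ha
    obtain ⟨n, hn⟩ := ha
    rw [Submodule.mem_colon_singleton, Submodule.mem_bot, smul_eq_mul, mul_eq_zero] at hn
    rw [Ideal.mem_bot]
    rcases hn with hn | hn
    · exact eq_zero_of_pow_eq_zero hn
    · exfalso
      subst hn
      have : (1 : X.presheaf.stalk x) ∈ IsLocalRing.maximalIdeal (X.presheaf.stalk x) := by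
        rw [hr, Ideal.mem_radical_iff]
        exact ⟨1, by rw [Submodule.mem_colon_singleton]; simp⟩
      exact (IsLocalRing.maximalIdeal.isMaximal _).ne_top ((Ideal.eq_top_iff_one _).mpr this)
  -- but the ideal of `D` at `x` is a nonzero ideal in the maximal ideal
  obtain ⟨_, ⟨U, hU, rfl⟩, hxU, -⟩ :=
    X.isBasis_affineOpens.exists_subset_of_mem_open (Set.mem_univ x) isOpen_univ
  letI : Algebra Γ(X, U) (X.presheaf.stalk x) :=
    TopCat.Presheaf.algebra_section_stalk X.presheaf ⟨x, hxU⟩
  haveI hloc : IsLocalization.AtPrime (X.presheaf.stalk x)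
      (hU.primeIdealOf ⟨x, hxU⟩).asIdeal := hU.isLocalization_stalk ⟨x, hxU⟩
  have hne : D.ideal ⟨U, hU⟩ ≠ ⊥ := fun h0 =>
    hD (ideal_eq_bot_of_ideal_eq_bot D ⟨U, hU⟩ ⟨x, hxU⟩ h0)
  obtain ⟨f, hfD, hf0⟩ := Submodule.exists_mem_ne_zero_of_ne_bot hne
  have hfp : f ∈ (hU.primeIdealOf ⟨x, hxU⟩).asIdeal := by
    by_contra hnot
    have h3 := (Scheme.IdealSheafData.mem_support_iff_of_mem (U := ⟨U, hU⟩) hxU).mp hx
    rw [Scheme.mem_zeroLocus_iff] at h3
    exact h3 f hfD ((mem_basicOpen_iff_notMem_primeIdealOf hU f x hxU).mpr hnot)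
  have h4 : algebraMap Γ(X, U) (X.presheaf.stalk x) f ∈
      IsLocalRing.maximalIdeal (X.presheaf.stalk x) := by
    rw [← IsLocalization.AtPrime.map_eq_maximalIdeal (hU.primeIdealOf ⟨x, hxU⟩).asIdeal
      (X.presheaf.stalk x)]
    exact Ideal.mem_map_of_mem _ hfp
  rw [hm, Ideal.mem_bot] at h4
  have hinj : Function.Injective (algebraMap Γ(X, U) (X.presheaf.stalk x)) :=
    germ_injective_of_isIntegral X x hxU
  exact hf0 (hinj (h4.trans (map_zero _).symm))

end ass

section pairing

variable (k : Type u) [Field k] (X : Scheme.{u}) [X.Over (Spec (CommRingCat.of k))]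
  [IsProper (X ↘ Spec (CommRingCat.of k))] [IsIntegral X]

/-- on an integral proper surface: `(L · O(-D)) = - deg (L|_D)` for an effective Cartier divisor
`D` of dimension at most one. -/
theorem intNum_idealMod (hdim : topologicalKrullDim X = 2) (L : X.Modules)
    (hL : PicF.IsInvertible L) (D : X.IdealSheafData) (hC : BlowUp.IsEffCartierIdeal D)
    (hD1 : topologicalKrullDim D.subscheme ≤ 1) :
    FGA.intNum k X 2 ![L, ClSub.idealMod D] (Coh.structureModule X) =
      - Pic13.curveDeg k (D.subschemeι ≫ (X ↘ Spec (CommRingCat.of k)))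
        ((Scheme.Modules.pullback D.subschemeι).obj L) := by
  haveI : IsNoetherian X := Groth.Agent.H5.Curve2.isNoetherian_of_proper k X
  have hd2 : topologicalKrullDim X ≤ ((2 : ℕ) : WithBot ℕ∞) := by rw [hdim]; rfl
  have hDne : D ≠ ⊥ := by
    intro h0
    have h1 : topologicalKrullDim D.subscheme = topologicalKrullDim X := by
      rw [dim_subscheme_eq, h0, Scheme.IdealSheafData.support_bot]
      exact IsHomeomorph.topologicalKrullDim_eq _ (Homeomorph.Set.univ X).isHomeomorph
    rw [h1, hdim] at hD1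
    exact absurd hD1 (by decide)
  have hass : ∀ x ∈ D.support, ¬ Curv2.IsAssPoint (Coh.structureModule X) x := fun x hx =>
    not_isAssPoint_unit_of_mem_support D hDne x hx
  have hOc : Coh.IsCoh (Coh.structureModule X) := Groth.Agent.LD.PF.isCoh_unitMod X
  have h1 := intNum_snoc_idealMod k 2 hd2 (fun _ : Fin 1 => L) (fun _ => hL)
    (Coh.structureModule X) hOc D hC hass
  have hsn : (Fin.snoc (fun _ : Fin 1 => L) (ClSub.idealMod D) : Fin 2 → X.Modules) =
      ![L, ClSub.idealMod D] := by
    funext i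
    fin_cases i <;> rfl
  rw [hsn] at h1
  rw [h1, intNum_iso k 2 (fun _ : Fin 1 => L) (unitorL' (ClSub.quotMod D)),
    curveDeg_eq_neg_intNum k 2 hd2 L hL D hD1, neg_neg]

end pairing

section pairing2

variable (k : Type u) [Field k] (X : Scheme.{u}) [X.Over (Spec (CommRingCat.of k))]
  [IsProper (X ↘ Spec (CommRingCat.of k))] [IsIntegral X] [PicGrp.Law X]

/-- the intersection form against the class of a Cartier curve is the degree of the restriction. -/
theorem B_clR_curveCl (hdim : topologicalKrullDim X = 2)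
    (B : NumR.N1R k X →ₗ[ℝ] NumR.N1R k X →ₗ[ℝ] ℝ) (hB : NumR.IsIntForm₂ k X B)
    (L : X.Modules) (hL : PicF.IsInvertible L) (D : X.IdealSheafData)
    (hD : PicF.IsInvertible (ClSub.idealMod D))
    (hD1 : topologicalKrullDim (D.support : Set X) ≤ 1) :
    B (NumR.clR k X L hL) (NumR.curveCl k X D hD) =
      (Pic13.curveDeg k (D.subschemeι ≫ (X ↘ Spec (CommRingCat.of k)))
        ((Scheme.Modules.pullback D.subschemeι).obj L) : ℝ) := by
  have hC : BlowUp.IsEffCartierIdeal D := (isInvertible_idealMod_iff D).mp hD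
  unfold NumR.curveCl
  rw [map_neg, hB, intNum_idealMod k X hdim L hL D hC (by rw [dim_subscheme_eq]; exact hD1)]
  push_cast
  ring

/-- an ample module has positive degree on every curve. -/
theorem curveDeg_pos_of_isAmple (H : X.Modules) (hH : CohB1.IsAmple H) (D : X.IdealSheafData)
    (hD1 : topologicalKrullDim (D.support : Set X) = 1) :
    0 < Pic13.curveDeg k (D.subschemeι ≫ (X ↘ Spec (CommRingCat.of k)))
        ((Scheme.Modules.pullback D.subschemeι).obj H) := by
  rw [← euler_quotMod_sub_eq_curveDeg k D hD1.le H hH.1]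
  exact euler_tensor_sub_pos_of_isAmple k H hH _ (isCoh_quotMod D)
    (by rw [support_quotMod, hD1])

/-- the class of an ample module pairs positively with every Cartier curve. -/
theorem B_ample_curveCl_pos (hdim : topologicalKrullDim X = 2)
    (B : NumR.N1R k X →ₗ[ℝ] NumR.N1R k X →ₗ[ℝ] ℝ) (hB : NumR.IsIntForm₂ k X B)
    (D : X.IdealSheafData) (hD : PicF.IsInvertible (ClSub.idealMod D))
    (hD1 : topologicalKrullDim (D.support : Set X) = 1) (x : NumR.N1R k X)
    (hx : x ∈ NumR.ampleCone k X) : 0 < B x (NumR.curveCl k X D hD) := by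
  let T : ConvexCone ℝ (NumR.N1R k X) :=
    { carrier := {x | 0 < B x (NumR.curveCl k X D hD)}
      smul_mem' := by
        intro c hc x hx
        change 0 < B (c • x) _
        rw [map_smul, LinearMap.smul_apply, smul_eq_mul]
        exact mul_pos hc hx
      add_mem' := by
        intro x hx y hy
        change 0 < B (x + y) _
        rw [map_add, LinearMap.add_apply]
        exact add_pos hx hy }
  have h : NumR.ampleCone k X ≤ T := by
    apply ConvexCone.hull_min
    rintro _ ⟨H, hHinv, hH, rfl⟩
    change 0 < B _ _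
    rw [B_clR_curveCl k X hdim B hB H hHinv D hD hD1.le]
    exact_mod_cast curveDeg_pos_of_isAmple k X H hH D hD1
  exact h hx

end pairing2

end Groth.Agent.H5.NumRS
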