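import Mathlib
import Groth.Prelude.Def_NumR
import Groth.Agent.Lib.Helper5.NumRS.Pair
import Groth.Agent.Lib.Helper5.NumRS.Dim
import Groth.Agent.Lib.Helper5.NumRS.Big
import Groth.Agent.Lib.Helper5.IntN.Cyc
import Groth.Agent.Lib.Lead.QC.ZeroScheme
import Groth.Agent.Lib.Lead.Curve.InvMono

/-!
# Nef classes pair nonnegatively with effective classes (surfaces)
-/

set_option autoImplicit false
set_option linter.style.haveILetI false
universe u
open CategoryTheory CategoryTheory.Limits AlgebraicGeometry TopologicalSpace Opposite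

namespace Groth.Agent.H5.NumRS

open Groth.Agent.LD Groth.Agent.LD.QC Groth.Agent.H5.IntN Groth.Agent.H5.Curve3
  Groth.Agent.H5.Curve6 Groth.Agent.H5.Snap

/-- on a regular surface the ideal of the curve `closure {ξ}` is invertible. -/
theorem isInvertible_vI (k : Type u) [Field k] (X : Scheme.{u}) [X.Over (Spec (CommRingCat.of k))]
    [IsProper (X ↘ Spec (CommRingCat.of k))] [IsIntegral X] (hdim : topologicalKrullDim X = 2)
    (hreg : ∀ x : X, IsRegularLocalRing (X.presheaf.stalk x)) (ξ : X)
    (hξ : topologicalKrullDim ↥(closure ({ξ} : Set X)) = 1) :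
    PicF.IsInvertible (ClSub.idealMod (vI ξ)) :=
  (isInvertible_idealMod_of_curve k X hdim hreg (vI ξ) (isIntegral_vI ξ)
    (by rw [coe_support_vI]; exact hξ)).2

variable (k : Type u) [Field k] (X : Scheme.{u}) [X.Over (Spec (CommRingCat.of k))]
  [IsProper (X ↘ Spec (CommRingCat.of k))] [IsIntegral X] [PicGrp.Law X]

open Classical in
/-- the class of the curve `closure {ξ}` (zero if this is not a curve). -/
noncomputable def cC (hdim : topologicalKrullDim X = 2)
    (hreg : ∀ x : X, IsRegularLocalRing (X.presheaf.stalk x)) (ξ : X) : NumR.N1R k X :=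
  if hξ : topologicalKrullDim ↥(closure ({ξ} : Set X)) = 1 then
    NumR.curveCl k X (vI ξ) (isInvertible_vI k X hdim hreg ξ hξ) else 0

theorem cC_eq (hdim : topologicalKrullDim X = 2)
    (hreg : ∀ x : X, IsRegularLocalRing (X.presheaf.stalk x)) (ξ : X)
    (hξ : topologicalKrullDim ↥(closure ({ξ} : Set X)) = 1) :
    cC k X hdim hreg ξ = NumR.curveCl k X (vI ξ) (isInvertible_vI k X hdim hreg ξ hξ) := by
  unfold cC
  rw [dif_pos hξ]

theorem curveCl_congr {I J : X.IdealSheafData} (h : I = J)
    (hI : PicF.IsInvertible (ClSub.idealMod I)) (hJ : PicF.IsInvertible (ClSub.idealMod J)) :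
    NumR.curveCl k X I hI = NumR.curveCl k X J hJ := by
  subst h
  rfl

/-- an integral Cartier curve has the class of its generic point. -/
theorem curveCl_eq_cC (hdim : topologicalKrullDim X = 2)
    (hreg : ∀ x : X, IsRegularLocalRing (X.presheaf.stalk x)) (I : X.IdealSheafData)
    (hIint : IsIntegral I.subscheme) (hId : topologicalKrullDim (I.support : Set X) = 1)
    (hI : PicF.IsInvertible (ClSub.idealMod I)) :
    NumR.curveCl k X I hI = cC k X hdim hreg (I.subschemeι (genericPoint I.subscheme)) := by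
  haveI := hIint
  have h1 : vI (I.subschemeι (genericPoint I.subscheme)) = I := eq_vanishingIdeal_of_isIntegral I
  have h2 : topologicalKrullDim
      ↥(closure ({I.subschemeι (genericPoint I.subscheme)} : Set X)) = 1 := by
    rw [← support_eq_closure_of_isIntegral I]; exact hId
  rw [cC_eq k X hdim hreg _ h2]
  exact curveCl_congr k X h1.symm _ _

/-- pairing with the class of a curve is the degree on it. -/
theorem B_clR_cC (hdim : topologicalKrullDim X = 2)
    (hreg : ∀ x : X, IsRegularLocalRing (X.presheaf.stalk x))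
    (B : NumR.N1R k X →ₗ[ℝ] NumR.N1R k X →ₗ[ℝ] ℝ) (hB : NumR.IsIntForm₂ k X B)
    (L : X.Modules) (hL : PicF.IsInvertible L) (ξ : X)
    (hξ : topologicalKrullDim ↥(closure ({ξ} : Set X)) = 1) :
    B (NumR.clR k X L hL) (cC k X hdim hreg ξ) =
      (Pic13.curveDeg k ((vI ξ).subschemeι ≫ (X ↘ Spec (CommRingCat.of k)))
        ((Scheme.Modules.pullback (vI ξ).subschemeι).obj L) : ℝ) := by
  rw [cC_eq k X hdim hreg ξ hξ]
  exact B_clR_curveCl k X hdim B hB L hL (vI ξ) _ (by rw [coe_support_vI, hξ])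

/-- **decomposition of an effective Cartier divisor into its integral components**, as an
identity of linear forms. -/
theorem exists_decomp (hdim : topologicalKrullDim X = 2)
    (hreg : ∀ x : X, IsRegularLocalRing (X.presheaf.stalk x))
    (B : NumR.N1R k X →ₗ[ℝ] NumR.N1R k X →ₗ[ℝ] ℝ) (hB : NumR.IsIntForm₂ k X B)
    (D : X.IdealSheafData) (hD : PicF.IsInvertible (ClSub.idealMod D))
    (hD1 : topologicalKrullDim (D.support : Set X) ≤ 1) :
    ∃ (s : Finset X) (n : X → ℕ),
      (∀ ξ ∈ s, ξ ∈ D.support ∧ topologicalKrullDim ↥(closure ({ξ} : Set X)) = 1) ∧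
      ∀ x : NumR.N1R k X, B x (NumR.curveCl k X D hD) =
        ∑ ξ ∈ s, (n ξ : ℝ) * B x (cC k X hdim hreg ξ) := by
  classical
  haveI : IsNoetherian X := Groth.Agent.H5.Curve2.isNoetherian_of_proper k X
  have hd2 : topologicalKrullDim X ≤ ((2 : ℕ) : WithBot ℕ∞) := by rw [hdim]; rfl
  have hT : Coh.IsCoh (ClSub.quotMod D) := isCoh_quotMod D
  have hTdim : topologicalKrullDim (CohB1.support (ClSub.quotMod D)) ≤ ((1 : ℕ) : WithBot ℕ∞) := by
    rw [support_quotMod]; exact_mod_cast hD1
  have hO : PicF.IsInvertible (Coh.structureModule X) := PicLoc.isInvertible_structureModule X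
  obtain ⟨hfin, -, -⟩ := good_of_isCoh k 1 1 (fun _ : Fin 1 => Coh.structureModule X)
    (fun _ => hO) (ClSub.quotMod D) hT hTdim
  have hs : ∀ ξ : X, ξ ∈ hfin.toFinset ↔
      ξ ∈ CohB1.support (ClSub.quotMod D) ∧
        topologicalKrullDim ↥(closure ({ξ} : Set X)) = ((1 : ℕ) : WithBot ℕ∞) := by
    intro ξ
    rw [Set.Finite.mem_toFinset]
    exact ⟨fun h => ⟨h.2, h.1⟩, fun h => ⟨h.2, h.1⟩⟩
  have hs1 : ∀ ξ ∈ hfin.toFinset, ξ ∈ D.support ∧
      topologicalKrullDim ↥(closure ({ξ} : Set X)) = 1 := by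
    intro ξ hξ
    obtain ⟨h1, h2⟩ := (hs ξ).mp hξ
    rw [support_quotMod] at h1
    exact ⟨h1, by rw [h2]; rfl⟩
  refine ⟨hfin.toFinset,
    fun ξ => (Module.length (X.presheaf.stalk ξ) ((ClSub.quotMod D).presheaf.stalk ξ)).toNat,
    hs1, ?_⟩
  -- both sides are linear in `x`; check on classes of invertible modules
  have hlin : B.flip (NumR.curveCl k X D hD) =
      ∑ ξ ∈ hfin.toFinset,
        ((Module.length (X.presheaf.stalk ξ) ((ClSub.quotMod D).presheaf.stalk ξ)).toNat : ℝ) •
          B.flip (cC k X hdim hreg ξ) := by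
    refine LinearMap.ext_on NumR.span_clR ?_
    rintro _ ⟨L, hL, rfl⟩
    rw [LinearMap.flip_apply, LinearMap.sum_apply,
      B_clR_curveCl k X hdim B hB L hL D hD hD1,
      curveDeg_eq_neg_intNum k 2 hd2 L hL D (by rw [dim_subscheme_eq]; exact hD1),
      intNum_eq_sum_components k 2 hd2 (fun _ : Fin 1 => L) (fun _ => hL) _ hT hTdim
        hfin.toFinset hs]
    push_cast
    rw [← Finset.sum_neg_distrib]
    apply Finset.sum_congr rfl
    intro ξ hξ
    rw [LinearMap.smul_apply, LinearMap.flip_apply,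
      B_clR_cC k X hdim hreg B hB L hL ξ (hs1 ξ hξ).2,
      curveDeg_eq_neg_intNum k 2 hd2 L hL (vI ξ)
        (by rw [dim_subscheme_eq, coe_support_vI, (hs1 ξ hξ).2]), smul_eq_mul]
    push_cast
    rw [mul_neg]
    rfl
  intro x
  have := congrArg (fun f => f x) hlin
  simpa [LinearMap.sum_apply, LinearMap.smul_apply, LinearMap.flip_apply] using this

/-- an effective Cartier divisor on an integral surface has dimension at most one. -/
theorem dim_support_le_one_of_isEffCartier (hdim : topologicalKrullDim X = 2)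
    (D : X.IdealSheafData) (hC : BlowUp.IsEffCartierIdeal D) :
    topologicalKrullDim (D.support : Set X) ≤ 1 := by
  have hne : D ≠ ⊥ := by
    intro h0
    obtain ⟨x⟩ : Nonempty X := inferInstance
    obtain ⟨U, hxU, f, hf, hUf⟩ := hC x
    haveI : Nonempty U.1 := ⟨⟨x, hxU⟩⟩
    haveI : Nontrivial Γ(X, U.1) := inferInstance
    have hf0 : f ≠ 0 := nonZeroDivisors.ne_zero hf
    rw [h0] at hUf
    have h1 : f ∈ (⊥ : X.IdealSheafData).ideal U := by
      rw [hUf]; exact Ideal.mem_span_singleton_self f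
    exact hf0 (by simpa using h1)
  apply dim_le_one_of_ne_univ hdim _ D.support.isClosed
  intro huniv
  apply hne
  rw [← Scheme.IdealSheafData.support_eq_top_iff]
  exact Closeds.ext huniv

/-- an invertible module with a nonzero section is `O(D)` for an effective Cartier divisor `D`. -/
theorem exists_cartier_of_section (hdim : topologicalKrullDim X = 2) (E : X.Modules)
    (hE : PicF.IsInvertible E) (s : Coh.structureModule X ⟶ E) (hs : s ≠ 0) :
    ∃ (D : X.IdealSheafData) (hD : PicF.IsInvertible (ClSub.idealMod D)),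
      topologicalKrullDim (D.support : Set X) ≤ 1 ∧
        NumR.clR k X E hE = NumR.curveCl k X D hD := by
  obtain ⟨E', hE', ⟨ε⟩⟩ := Groth.Agent.H5.Glue.exists_inverse E hE
  have hO : PicF.IsInvertible (Coh.structureModule X) := PicLoc.isInvertible_structureModule X
  haveI : Mono s := Groth.Agent.LD.Curve.mono_of_ne_zero hO hE s hs
  haveI : E'.IsQuasicoherent := qc_of_isInvertible E' hE'
  obtain ⟨iso⟩ := nonempty_iso_idealMod_zeroScheme E E' ε s hE hE'
  have hD : PicF.IsInvertible (ClSub.idealMod (PicF2.zeroScheme E s)) :=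
    isInvertible_of_iso iso hE'
  refine ⟨PicF2.zeroScheme E s, hD,
    dim_support_le_one_of_isEffCartier X hdim _ ((isInvertible_idealMod_iff _).mp hD), ?_⟩
  unfold NumR.curveCl
  rw [← clR_congr hE' hD iso, clR_inverse hE hE' ε, neg_neg]

/-- **a nef class pairs nonnegatively with every effective class.** -/
theorem nef_eff_nonneg (hdim : topologicalKrullDim X = 2)
    (hreg : ∀ x : X, IsRegularLocalRing (X.presheaf.stalk x))
    (B : NumR.N1R k X →ₗ[ℝ] NumR.N1R k X →ₗ[ℝ] ℝ) (hB : NumR.IsIntForm₂ k X B)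
    (x : NumR.N1R k X) (hx : x ∈ NumR.nefCone₂ k X B) (e : NumR.N1R k X)
    (he : e ∈ NumR.effCone k X) : 0 ≤ B x e := by
  let T : ConvexCone ℝ (NumR.N1R k X) :=
    { carrier := {e | 0 ≤ B x e}
      smul_mem' := by
        intro c hc e he
        change 0 ≤ B x (c • e)
        rw [map_smul, smul_eq_mul]
        exact mul_nonneg hc.le he
      add_mem' := by
        intro e he f hf
        change 0 ≤ B x (e + f)
        rw [map_add]
        exact add_nonneg he hf }
  have h : NumR.effCone k X ≤ T := by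
    apply ConvexCone.hull_min
    rintro _ ⟨E, hE, ⟨s, hs⟩, rfl⟩
    change 0 ≤ B x _
    obtain ⟨D, hD, hD1, hcl⟩ := exists_cartier_of_section k X hdim E hE s hs
    obtain ⟨S, n, hS, hdec⟩ := exists_decomp k X hdim hreg B hB D hD hD1
    rw [hcl, hdec x]
    apply Finset.sum_nonneg
    intro ξ hξ
    apply mul_nonneg (Nat.cast_nonneg _)
    rw [cC_eq k X hdim hreg ξ (hS ξ hξ).2]
    exact hx (vI ξ) (isIntegral_vI ξ) (by rw [coe_support_vI]; exact (hS ξ hξ).2) _
  exact h he

end Groth.Agent.H5.NumRS
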