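import Mathlib

/-!
# Dimension of proper closed subsets of an irreducible closed set
-/

set_option autoImplicit false
open TopologicalSpace Order

namespace Groth.Agent.H5.NumRS

/-- a proper closed subset of an irreducible set of finite dimension has smaller dimension. -/
theorem dim_lt_of_ssubset {T : Type*} [TopologicalSpace T] {A B : Set T} (hA : IsClosed A)
    (hB : IsIrreducible B) (hAB : A ⊂ B) (n : ℕ) (hn : topologicalKrullDim B = n) :
    topologicalKrullDim A < n := by
  haveI : IrreducibleSpace B := Subtype.irreducibleSpace hB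
  unfold topologicalKrullDim
  rw [krullDim_lt_coe_iff]
  intro l
  have hemb : Topology.IsEmbedding (Set.inclusion hAB.le) := Topology.IsEmbedding.inclusion hAB.le
  let f : IrreducibleCloseds A → IrreducibleCloseds B :=
    IrreducibleCloseds.map (Set.inclusion hAB.le) hemb.continuous
  have hf : StrictMono f := IrreducibleCloseds.map_strictMono_of_isInducing hemb.isInducing
  let top : IrreducibleCloseds B :=
    ⟨Set.univ, (IrreducibleSpace.isIrreducible_univ B), isClosed_univ⟩
  obtain ⟨b, hbB, hbA⟩ := Set.exists_of_ssubset hAB
  have hlast : (l.map f hf).last < top := by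
    rw [lt_iff_le_and_ne]
    refine ⟨fun x _ => Set.mem_univ x, ?_⟩
    intro heq
    have hcl : IsClosed {z : B | (z : T) ∈ A} := hA.preimage continuous_subtype_val
    have h1 : ((l.map f hf).last : Set B) ⊆ {z : B | (z : T) ∈ A} := by
      change closure (Set.inclusion hAB.le '' (l.last : Set A)) ⊆ _
      apply closure_minimal _ hcl
      rintro _ ⟨z, -, rfl⟩
      exact z.2
    rw [heq] at h1
    exact hbA (h1 (Set.mem_univ (⟨b, hbB⟩ : B)))
  have h2 := LTSeries.length_le_krullDim ((l.map f hf).snoc top hlast)
  have h3 : krullDim (IrreducibleCloseds B) = ((n : ℕ) : WithBot ℕ∞) := hn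
  rw [h3, RelSeries.snoc_length, LTSeries.map_length] at h2
  have h4 : l.length + 1 ≤ n := by exact_mod_cast h2
  omega

end Groth.Agent.H5.NumRS
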