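import Mathlib
import Groth.Prelude.Def_NumR
import Groth.Agent.Lib.Helper5.NumRS.Dim2
import Groth.Agent.Lib.Helper5.NumRS.Pair
import Groth.Agent.Lib.Helper2.DepthS1Sch
import Groth.Agent.Lib.Helper5.Snap.Integral

/-!
# Associated points of the structure sheaf of an integral closed subscheme
-/

set_option autoImplicit false
set_option linter.style.haveILetI false
universe u
open CategoryTheory CategoryTheory.Limits AlgebraicGeometry TopologicalSpace Opposite

namespace Groth.Agent.H5.NumRS

open Groth.Agent.LD Groth.Agent.LD.QC Groth.Agent.H5.IntN Groth.Agent.H5.Curve3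
  Groth.Agent.H5.Curve6 Groth.Agent.H5.Snap

variable {X : Scheme.{u}} [IsLocallyNoetherian X]

/-- an associated point of `O_Z`, `Z` an integral closed subscheme, is a generic point of `Z`:
the support of `Z` is contained in its closure. -/
theorem support_subset_of_isAssPoint_quotMod (J : X.IdealSheafData) [IsIntegral J.subscheme]
    (x : X) (h : Curv2.IsAssPoint (ClSub.quotMod J) x) :
    (J.support : Set X) ⊆ closure ({x} : Set X) := by
  obtain ⟨_, ⟨U, hU, rfl⟩, hxU, -⟩ :=
    X.isBasis_affineOpens.exists_subset_of_mem_open (Set.mem_univ x) isOpen_univ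
  have h1 := (Groth.Agent.H2.DepthS1.isAssPoint_iff (ClSub.quotMod J) hU x hxU).mp h
  obtain ⟨hprime, m, hm⟩ := h1
  set Z := J.subscheme with hZ
  set V : Z.Opens := J.subschemeι ⁻¹ᵁ U with hV
  let m' : Γ(Z, V) := m
  have hm0 : m ≠ 0 := by
    rintro rfl
    have : (hU.primeIdealOf ⟨x, hxU⟩).asIdeal = ⊤ := by
      rw [hm, Ideal.radical_eq_top, eq_top_iff]
      intro r _
      rw [Submodule.mem_colon_singleton, smul_zero]
      exact Submodule.zero_mem _
    exact hprime.ne_top this
  have hm'0 : m' ≠ 0 := hm0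
  have hVne : (V : Set Z).Nonempty := by
    by_contra hempty
    rw [Set.not_nonempty_iff_eq_empty] at hempty
    have hVbot : V = ⊥ := by
      ext z
      simp [hempty]
    have : Subsingleton Γ(Z, V) := by
      rw [hVbot]
      infer_instance
    exact hm'0 (Subsingleton.elim _ _)
  haveI : Nonempty V := hVne.to_subtype
  haveI : IsDomain Γ(Z, V) := @IsIntegral.component_integral Z inferInstance V inferInstance
  have hcolon : (⊥ : Submodule Γ(X, U) Γ(ClSub.quotMod J, U)).colon {m} =
      J.ideal ⟨U, hU⟩ := by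
    ext r
    rw [Submodule.mem_colon_singleton, Submodule.mem_bot, ← J.ker_subschemeι_app ⟨U, hU⟩,
      RingHom.mem_ker]
    have hsm : r • m = (show Γ(ClSub.quotMod J, U) from
        (show Γ(Z, V) from (J.subschemeι.app U r) * m')) := rfl
    constructor
    · intro h0
      rw [hsm] at h0
      have h2 : (J.subschemeι.app U r) * m' = 0 := h0
      rcases mul_eq_zero.mp h2 with h3 | h3
      · exact h3
      · exact absurd h3 hm'0
    · intro h0
      rw [hsm]
      have h2 : (J.subschemeι.app U r) * m' = 0 := by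
        rw [show (J.subschemeι.app U r : Γ(Z, V)) = 0 from h0, zero_mul]
      exact h2
  rw [hcolon] at hm
  -- the generic point of `Z` lies in `V`
  have hηV : genericPoint Z ∈ V :=
    ((genericPoint_spec Z).mem_open_set_iff V.2).mpr (by simpa using hVne)
  set η := J.subschemeι (genericPoint Z) with hη
  have hηU : η ∈ U := hηV
  have hηJ : η ∈ J.support := by
    rw [← SetLike.mem_coe, ← J.range_subschemeι]
    exact ⟨_, rfl⟩
  have hle : (hU.primeIdealOf ⟨x, hxU⟩).asIdeal ≤ (hU.primeIdealOf ⟨η, hηU⟩).asIdeal := by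
    rw [hm, (hU.primeIdealOf ⟨η, hηU⟩).isPrime.radical_le_iff]
    intro f hf
    have h3 := (Scheme.IdealSheafData.mem_support_iff_of_mem (U := ⟨U, hU⟩) hηU).mp hηJ
    rw [Scheme.mem_zeroLocus_iff] at h3
    by_contra hnot
    exact h3 f hf ((mem_basicOpen_iff_notMem_primeIdealOf hU f η hηU).mpr hnot)
  have hspec : x ⤳ η := by
    have h4 : hU.primeIdealOf ⟨x, hxU⟩ ⤳ hU.primeIdealOf ⟨η, hηU⟩ :=
      (PrimeSpectrum.le_iff_specializes _ _).mp hle
    have h5 := h4.map hU.fromSpec.continuous
    rwa [hU.fromSpec_primeIdealOf ⟨x, hxU⟩, hU.fromSpec_primeIdealOf ⟨η, hηU⟩] at h5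
  rw [support_eq_closure_of_isIntegral J]
  exact closure_minimal (Set.singleton_subset_iff.mpr hspec.mem_closure) isClosed_closure

end Groth.Agent.H5.NumRS
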