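import Mathlib
import Groth.Prelude.Def_NumR
import Groth.Agent.Lib.Helper5.NumRS.Ass
import Groth.Agent.Lib.Helper5.NumRS.Nef
import Groth.Agent.Lib.Helper5.IntN.PosMain
import Groth.Agent.Lib.Helper2.SuppTensor

/-!
# Distinct integral curves on a surface meet nonnegatively
-/

set_option autoImplicit false
set_option linter.style.haveILetI false
universe u
open CategoryTheory CategoryTheory.Limits AlgebraicGeometry TopologicalSpace Opposite

namespace Groth.Agent.H5.NumRS

open Groth.Agent.LD Groth.Agent.LD.QC Groth.Agent.H5.IntN Groth.Agent.H5.Curve3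
  Groth.Agent.H5.Curve6 Groth.Agent.H5.Snap

variable (k : Type u) [Field k] (X : Scheme.{u}) [X.Over (Spec (CommRingCat.of k))]
  [IsProper (X ↘ Spec (CommRingCat.of k))] [IsIntegral X]

/-- **distinct integral Cartier curves on an integral proper surface have nonnegative intersection
number.** -/
theorem intNum_curves_nonneg (hdim : topologicalKrullDim X = 2) (I J : X.IdealSheafData)
    (hIint : IsIntegral I.subscheme) (hJint : IsIntegral J.subscheme)
    (hId : topologicalKrullDim (I.support : Set X) = 1)
    (hJd : topologicalKrullDim (J.support : Set X) = 1)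
    (hI : PicF.IsInvertible (ClSub.idealMod I)) (hJ : PicF.IsInvertible (ClSub.idealMod J))
    (hne : I ≠ J) :
    0 ≤ FGA.intNum k X 2 ![ClSub.idealMod I, ClSub.idealMod J] (Coh.structureModule X) := by
  haveI : IsNoetherian X := Groth.Agent.H5.Curve2.isNoetherian_of_proper k X
  haveI := hIint
  haveI := hJint
  have hd2 : topologicalKrullDim X ≤ ((2 : ℕ) : WithBot ℕ∞) := by rw [hdim]; rfl
  have hCI : BlowUp.IsEffCartierIdeal I := (isInvertible_idealMod_iff I).mp hI
  have hCJ : BlowUp.IsEffCartierIdeal J := (isInvertible_idealMod_iff J).mp hJ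
  have hOc : Coh.IsCoh (Coh.structureModule X) := Groth.Agent.LD.PF.isCoh_unitMod X
  have hJne : J ≠ ⊥ := by
    intro h0
    rw [h0, Scheme.IdealSheafData.support_bot] at hJd
    have h1 : topologicalKrullDim ((⊤ : Closeds X) : Set X) = topologicalKrullDim X :=
      IsHomeomorph.topologicalKrullDim_eq _ (Homeomorph.Set.univ X).isHomeomorph
    rw [h1, hdim] at hJd
    exact absurd hJd (by decide)
  -- first reduction
  have h1 := intNum_snoc_idealMod k 2 hd2 (fun _ : Fin 1 => ClSub.idealMod I) (fun _ => hI)
    (Coh.structureModule X) hOc J hCJ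
    (fun x hx => not_isAssPoint_unit_of_mem_support J hJne x hx)
  have hsn : (Fin.snoc (fun _ : Fin 1 => ClSub.idealMod I) (ClSub.idealMod J) :
      Fin 2 → X.Modules) = ![ClSub.idealMod I, ClSub.idealMod J] := by
    funext i
    fin_cases i <;> rfl
  rw [hsn] at h1
  rw [h1, intNum_iso k 2 (fun _ : Fin 1 => ClSub.idealMod I) (unitorL' (ClSub.quotMod J))]
  -- second reduction
  have hass : ∀ x ∈ I.support, ¬ Curv2.IsAssPoint (ClSub.quotMod J) x := by
    intro x hx hassx
    have h2 := support_subset_of_isAssPoint_quotMod J x hassx
    have h3 : closure ({x} : Set X) ⊆ (I.support : Set X) :=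
      closure_minimal (Set.singleton_subset_iff.mpr hx) I.support.isClosed
    have h4 : (J.support : Set X) ⊆ (I.support : Set X) := h2.trans h3
    by_cases heq : (J.support : Set X) = (I.support : Set X)
    · apply hne
      rw [← eq_vanishingIdeal_of_isIntegral I, ← eq_vanishingIdeal_of_isIntegral J]
      congr 1
      apply Closeds.ext
      change closure _ = closure _
      rw [← support_eq_closure_of_isIntegral I, ← support_eq_closure_of_isIntegral J, heq]
    · have hirr : IsIrreducible (I.support : Set X) := by
        rw [support_eq_closure_of_isIntegral I]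
        exact isIrreducible_singleton.closure
      have := dim_lt_of_ssubset J.support.isClosed hirr (lt_of_le_of_ne h4 heq) 1
        (by rw [hId]; rfl)
      rw [hJd] at this
      exact absurd this (by decide)
  let M₀ : Fin 0 → X.Modules := fun i => i.elim0
  have hQJ : Coh.IsCoh (ClSub.quotMod J) := isCoh_quotMod J
  have hQI : Coh.IsCoh (ClSub.quotMod I) := isCoh_quotMod I
  have h5 := intNum_snoc_idealMod k 2 hd2 M₀ (fun i => i.elim0) (ClSub.quotMod J) hQJ I hCI hass
  have hsn0 : (Fin.snoc M₀ (ClSub.idealMod I) : Fin 1 → X.Modules) =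
      fun _ : Fin 1 => ClSub.idealMod I := by
    funext i
    fin_cases i
    rfl
  rw [hsn0] at h5
  rw [h5]
  -- the remaining module has zero-dimensional support
  have hTc : Coh.IsCoh (CohB1.tensorMod (ClSub.quotMod J) (ClSub.quotMod I)) :=
    Groth.Agent.H5.DegC.isCoh_tensorMod' hQJ hQI
  have hsupp : CohB1.support (CohB1.tensorMod (ClSub.quotMod J) (ClSub.quotMod I)) ⊆
      (J.support : Set X) ∩ (I.support : Set X) := by
    intro x hx
    haveI := hQJ.1
    haveI := hQI.1
    have h6 := (Groth.Agent.H2.SuppTensor.support_tensorMod _ _ hQJ.2 hQI.2 x).mp hx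
    constructor
    · have : x ∈ CohB1.support (ClSub.quotMod J) := h6.1
      rwa [support_quotMod] at this
    · have : x ∈ CohB1.support (ClSub.quotMod I) := h6.2
      rwa [support_quotMod] at this
  have hdim0 : topologicalKrullDim
      (CohB1.support (CohB1.tensorMod (ClSub.quotMod J) (ClSub.quotMod I))) ≤ ((0 : ℕ) : WithBot ℕ∞) := by
    have hirr : IsIrreducible (J.support : Set X) := by
      rw [support_eq_closure_of_isIntegral J]
      exact isIrreducible_singleton.closure
    have hss : (J.support : Set X) ∩ (I.support : Set X) ⊂ (J.support : Set X) := by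
      refine lt_of_le_of_ne Set.inter_subset_left ?_
      intro heq
      have h4 : (J.support : Set X) ⊆ (I.support : Set X) := by
        rw [← heq]; exact Set.inter_subset_right
      have hirrI : IsIrreducible (I.support : Set X) := by
        rw [support_eq_closure_of_isIntegral I]
        exact isIrreducible_singleton.closure
      by_cases heq2 : (J.support : Set X) = (I.support : Set X)
      · apply hne
        rw [← eq_vanishingIdeal_of_isIntegral I, ← eq_vanishingIdeal_of_isIntegral J]
        congr 1
        apply Closeds.ext
        change closure _ = closure _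
        rw [← support_eq_closure_of_isIntegral I, ← support_eq_closure_of_isIntegral J, heq2]
      · have := dim_lt_of_ssubset J.support.isClosed hirrI (lt_of_le_of_ne h4 heq2) 1
          (by rw [hId]; rfl)
        rw [hJd] at this
        exact absurd this (by decide)
    have h7 := dim_lt_of_ssubset (J.support.isClosed.inter I.support.isClosed) hirr hss 1
      (by rw [hJd]; rfl)
    have h8 : topologicalKrullDim
        (CohB1.support (CohB1.tensorMod (ClSub.quotMod J) (ClSub.quotMod I))) ≤
        topologicalKrullDim ↥((J.support : Set X) ∩ (I.support : Set X)) :=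
      (Topology.IsInducing.topologicalKrullDim_le (f := Set.inclusion hsupp)
        (Topology.IsEmbedding.inclusion hsupp).isInducing)
    have h9 := lt_of_le_of_lt h8 h7
    -- `< 1` gives `≤ 0`
    rcases hT : topologicalKrullDim
        (CohB1.support (CohB1.tensorMod (ClSub.quotMod J) (ClSub.quotMod I))) with _ | n
    · exact bot_le
    · rw [hT] at h9
      have h10 : n < ((1 : ℕ) : ℕ∞) := WithBot.coe_lt_coe.mp h9
      have h11 : n ≤ 0 := by
        have : n < 0 + 1 := by simpa using h10
        exact (ENat.lt_add_one_iff (by simp)).mp this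
      exact WithBot.coe_le_coe.mpr h11
  exact intNum_nonneg_of_isAmple k X 2 hd2 M₀ M₀ (fun i => i.elim0) (fun i => i.elim0) _ hTc hdim0

end Groth.Agent.H5.NumRS
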