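import Mathlib
import Groth.Prelude.Def_NumR
import Groth.Agent.Lib.Helper5.NumRS.Nef
import Groth.Agent.Lib.Helper5.NumRS.A
import Groth.Agent.Lib.Helper5.NumRS.B
import Groth.Agent.Lib.Helper5.Surf.GrowC
import Groth.Agent.Lib.Helper5.SD.TwLin

/-!
# The positive cone of a surface consists of pseudo-effective classes; nef classes have
nonnegative self-intersection
-/

set_option autoImplicit false
set_option linter.style.haveILetI false
universe u
open CategoryTheory CategoryTheory.Limits AlgebraicGeometry TopologicalSpace Opposite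

namespace Groth.Agent.H5.NumRS

open Groth.Agent.LD Groth.Agent.LD.QC Groth.Agent.H5.IntN Groth.Agent.H5.Curve3
  Groth.Agent.H5.Curve6 Groth.Agent.H5.Snap

/-- the real-variable core of "nef ⇒ nonnegative self-intersection". -/
theorem quad_contra (a b c : ℝ) (ha : 0 < a) (hb : 0 ≤ b) (hc : c < 0)
    (h : ∀ t : ℝ, 0 < t → 0 < c + 2 * b * t + a * t ^ 2 → 0 ≤ c + t * b) : False := by
  set d := b ^ 2 - a * c with hd
  have hd1 : b ^ 2 < d := by rw [hd]; nlinarith
  have hd0 : 0 ≤ d := le_trans (sq_nonneg b) hd1.le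
  set r := Real.sqrt d with hr
  have hr2 : r ^ 2 = d := Real.sq_sqrt hd0
  have hrb : b < r := (Real.lt_sqrt hb).mpr hd1
  have hr0 : 0 < r := lt_of_le_of_lt hb hrb
  have key : ∀ ε : ℝ, 0 < ε → 0 ≤ -(r * (r - b)) + a * ε * b := by
    intro ε hε
    have ht : 0 < (r - b) / a + ε := by
      have : 0 < (r - b) / a := div_pos (by linarith) ha
      linarith
    have hat : a * ((r - b) / a + ε) = r - b + a * ε := by
      field_simp
    have hq : 0 < c + 2 * b * ((r - b) / a + ε) + a * ((r - b) / a + ε) ^ 2 := by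
      have h1 : a * (c + 2 * b * ((r - b) / a + ε) + a * ((r - b) / a + ε) ^ 2) =
          (a * ((r - b) / a + ε) + b) ^ 2 - d := by rw [hd]; ring
      rw [hat] at h1
      have h2 : (r - b + a * ε + b) ^ 2 - d = 2 * r * a * ε + a ^ 2 * ε ^ 2 := by
        rw [← hr2]; ring
      rw [h2] at h1
      have h3 : 0 < 2 * r * a * ε + a ^ 2 * ε ^ 2 := by positivity
      rw [← h1] at h3
      exact (mul_pos_iff_of_pos_left ha).mp h3
    have h4 := h _ ht hq
    have h5 : a * (c + ((r - b) / a + ε) * b) = -(r * (r - b)) + a * ε * b := by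
      have : a * (c + ((r - b) / a + ε) * b) = a * c + (a * ((r - b) / a + ε)) * b := by ring
      rw [this, hat]
      have h6 : a * c = b ^ 2 - r ^ 2 := by rw [hr2, hd]; ring
      rw [h6]; ring
    rw [← h5]
    exact mul_nonneg ha.le h4
  have hpos : 0 < r * (r - b) := mul_pos hr0 (by linarith)
  rcases hb.eq_or_lt with hb0 | hbpos
  · have := key 1 one_pos
    rw [← hb0] at this hpos
    simp only [mul_zero, add_zero] at this
    linarith
  · have := key (r * (r - b) / (2 * a * b)) (by positivity)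
    have h7 : a * (r * (r - b) / (2 * a * b)) * b = r * (r - b) / 2 := by
      field_simp
    rw [h7] at this
    linarith


section LinAlg

variable {V : Type*} [AddCommGroup V] [Module ℝ V] [TopologicalSpace V]
  [IsTopologicalAddGroup V] [ContinuousSMul ℝ V]

/-- a spanning set closed under sums and rational multiples is dense. -/
theorem dense_of_rat (P : V → Prop) (hP0 : P 0) (hPadd : ∀ u v, P u → P v → P (u + v))
    (hPq : ∀ (q : ℚ) (u : V), P u → P ((q : ℝ) • u))
    (hspan : Submodule.span ℝ {v | P v} = ⊤) : Dense {v | P v} := by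
  intro u
  have hu : u ∈ Submodule.span ℝ {v | P v} := by rw [hspan]; trivial
  obtain ⟨n, b, e, rfl⟩ := Submodule.mem_span_set'.mp hu
  let U : (Fin n → ℝ) →ₗ[ℝ] V := Fintype.linearCombination ℝ (fun i => (e i : V))
  have hU : ∀ c : Fin n → ℝ, U c = ∑ i, c i • (e i : V) := fun c => rfl
  change U b ∈ closure {v | P v}
  have hUc : Continuous U := LinearMap.continuous_on_pi U
  have hdense : DenseRange (Pi.map fun (_ : Fin n) (q : ℚ) => (q : ℝ)) :=
    DenseRange.piMap fun _ => Rat.denseRange_cast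
  refine map_mem_closure hUc (hdense b) ?_
  rintro _ ⟨q, rfl⟩
  change P (U _)
  rw [hU]
  refine Finset.sum_induction _ P hPadd hP0 ?_
  intro i _
  exact hPq (q i) _ (e i).2

end LinAlg

/-- a nontrivial `H⁰` gives a nonzero section. -/
theorem exists_section_of_nontrivial (k : Type u) [Field k] (X : Scheme.{u})
    [X.Over (Spec (CommRingCat.of k))] (F : X.Modules) (h : Nontrivial (Coh.HH X F 0)) :
    ∃ s : Coh.structureModule X ⟶ F, s ≠ 0 := by
  letI := PF.moduleΓ k F
  let e : Coh.HH X F 0 ≃ₗ[k] (unitMod X ⟶ F) :=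
    (PF.H0LinearEquivΓ k F).trans (Groth.Agent.H5.SD.secEquiv k F).symm
  obtain ⟨a, b, hab⟩ := h
  by_cases ha : e a = 0
  · refine ⟨e b, fun hb => hab (e.injective (ha.trans hb.symm))⟩
  · exact ⟨e a, ha⟩

variable (k : Type u) [Field k] (X : Scheme.{u}) [X.Over (Spec (CommRingCat.of k))]
  [IsProper (X ↘ Spec (CommRingCat.of k))] [Smooth (X ↘ Spec (CommRingCat.of k))]
  [IsIntegral X] [PicGrp.Law X]

/-- the rational classes are dense. -/
theorem dense_isRat : Dense {y : NumR.N1R k X | IsRat k X y} := by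
  haveI : IsTopologicalAddGroup (NumR.N1R k X) := IsModuleTopology.topologicalAddGroup ℝ _
  exact dense_of_rat (fun y => IsRat k X y) isRat_zero isRat_add isRat_smul span_isRat

/-- **a rational class in the positive cone is effective.** -/
theorem isRat_posCone_mem_effCone (hdim : topologicalKrullDim X = 2)
    (B : NumR.N1R k X →ₗ[ℝ] NumR.N1R k X →ₗ[ℝ] ℝ) (hB : NumR.IsIntForm₂ k X B)
    (H : X.Modules) (hH : CohB1.IsAmple H) (y : NumR.N1R k X)
    (hy : y ∈ NumR.posCone k X B H hH.1) (hrat : IsRat k X y) : y ∈ NumR.effCone k X := by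
  obtain ⟨N, hN, μ, hμ⟩ := hrat
  obtain ⟨L, hL, rfl⟩ := NumR.exists_eq_cl μ
  have hcl : NumR.clR k X L hL = (N : ℝ) • y := hμ.symm
  obtain ⟨hyy, hyh⟩ := hy
  have hNpos : (0 : ℝ) < N := by exact_mod_cast hN
  have hLL : 0 < FGA.intNum k X 2 ![L, L] (Coh.structureModule X) := by
    have h1 := hB L L hL hL
    simp only [hcl, map_smul, LinearMap.smul_apply, smul_eq_mul] at h1
    have h2 : (0 : ℝ) < (FGA.intNum k X 2 ![L, L] (Coh.structureModule X) : ℝ) := by
      rw [← h1]; positivity
    exact_mod_cast h2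
  have hLH : 0 < FGA.intNum k X 2 ![L, H] (Coh.structureModule X) := by
    have h1 := hB L H hL hH.1
    simp only [hcl, map_smul, LinearMap.smul_apply, smul_eq_mul] at h1
    have h2 : (0 : ℝ) < (FGA.intNum k X 2 ![L, H] (Coh.structureModule X) : ℝ) := by
      rw [← h1]; positivity
    exact_mod_cast h2
  obtain ⟨n, hn, hnt⟩ := Groth.Agent.H5.SurfGrowth.exists_section_pow k hdim H hH L hL hLL hLH
  obtain ⟨s, hs⟩ := exists_section_of_nontrivial k X _ hnt
  have hLn : PicF.IsInvertible (CohB1.tensorPow L n) := isInvertible_tensorPow hL n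
  have h1 : NumR.clR k X (CohB1.tensorPow L n) hLn ∈ NumR.effCone k X :=
    clR_mem_effCone hLn s hs
  rw [clR_pow hL n hLn, hcl, smul_smul] at h1
  have hnpos : (0 : ℝ) < n := by exact_mod_cast hn
  have hc : (0 : ℝ) < ((n : ℝ) * (N : ℝ))⁻¹ := by positivity
  have h2 := (NumR.effCone k X).smul_mem hc h1
  rwa [smul_smul, inv_mul_cancel₀ (by positivity), one_smul] at h2

/-- **nef classes pair nonnegatively with the positive cone.** -/
theorem nef_posCone_nonneg [Module.Finite ℝ (NumR.N1R k X)]
    (hdim : topologicalKrullDim X = 2)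
    (hreg : ∀ x : X, IsRegularLocalRing (X.presheaf.stalk x))
    (B : NumR.N1R k X →ₗ[ℝ] NumR.N1R k X →ₗ[ℝ] ℝ) (hB : NumR.IsIntForm₂ k X B)
    (H : X.Modules) (hH : CohB1.IsAmple H) (x : NumR.N1R k X) (hx : x ∈ NumR.nefCone₂ k X B)
    (y : NumR.N1R k X) (hy : y ∈ NumR.posCone k X B H hH.1) : 0 ≤ B x y := by
  have hopen := (posCone_open_convex k X hdim B hB H hH).1
  have hcl : y ∈ closure (NumR.posCone k X B H hH.1 ∩ {y | IsRat k X y}) :=
    (dense_isRat k X).open_subset_closure_inter hopen hy
  have hc : Continuous fun y : NumR.N1R k X => B x y :=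
    IsModuleTopology.continuous_of_linearMap (B x)
  have hclosed : IsClosed {y : NumR.N1R k X | 0 ≤ B x y} := isClosed_le continuous_const hc
  refine closure_minimal ?_ hclosed hcl
  rintro z ⟨hz, hzr⟩
  exact nef_eff_nonneg k X hdim hreg B hB x hx z
    (isRat_posCone_mem_effCone k X hdim B hB H hH z hz hzr)

/-- **S19730: a nef class has nonnegative self-intersection.** -/
theorem nef_sq_nonneg [Module.Finite ℝ (NumR.N1R k X)]
    (hdim : topologicalKrullDim X = 2)
    (hreg : ∀ x : X, IsRegularLocalRing (X.presheaf.stalk x))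
    (B : NumR.N1R k X →ₗ[ℝ] NumR.N1R k X →ₗ[ℝ] ℝ) (hB : NumR.IsIntForm₂ k X B)
    (H : X.Modules) (hH : CohB1.IsAmple H) (x : NumR.N1R k X) (hx : x ∈ NumR.nefCone₂ k X B) :
    0 ≤ B x x := by
  by_contra hneg
  push Not at hneg
  haveI : IsNoetherian X := Groth.Agent.H5.Curve2.isNoetherian_of_proper k X
  have ha : 0 < B (NumR.clR k X H hH.1) (NumR.clR k X H hH.1) := ample_sq_pos k X hdim B hB H hH
  have hb : 0 ≤ B x (NumR.clR k X H hH.1) :=
    nef_eff_nonneg k X hdim hreg B hB x hx _ (ampleCone_le_effCone k X (clR_mem_ampleCone hH))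
  have hsym : B (NumR.clR k X H hH.1) x = B x (NumR.clR k X H hH.1) := isIntForm_symm B hB _ _
  apply quad_contra _ _ _ ha hb hneg
  intro t ht hq
  have hy : x + t • NumR.clR k X H hH.1 ∈ NumR.posCone k X B H hH.1 := by
    constructor
    · have : B (x + t • NumR.clR k X H hH.1) (x + t • NumR.clR k X H hH.1) =
          B x x + 2 * B x (NumR.clR k X H hH.1) * t +
            B (NumR.clR k X H hH.1) (NumR.clR k X H hH.1) * t ^ 2 := by
        simp only [map_add, map_smul, LinearMap.add_apply, LinearMap.smul_apply, smul_eq_mul, hsym]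
        ring
      rw [this]; exact hq
    · have : B (x + t • NumR.clR k X H hH.1) (NumR.clR k X H hH.1) =
          B x (NumR.clR k X H hH.1) +
            t * B (NumR.clR k X H hH.1) (NumR.clR k X H hH.1) := by
        simp only [map_add, map_smul, LinearMap.add_apply, LinearMap.smul_apply, smul_eq_mul]
      rw [this]
      have := mul_pos ht ha
      linarith
  have h1 := nef_posCone_nonneg k X hdim hreg B hB H hH x hx _ hy
  simpa only [map_add, map_smul, smul_eq_mul] using h1

end Groth.Agent.H5.NumRS
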