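import Mathlib
import Groth.Prelude.Def_NumR
import Groth.Agent.Lib.Helper5.NumRS.PosEff
import Groth.Agent.Lib.Helper5.IntN.Klei2
import Groth.Agent.Lib.Helper5.IntN.Klei4

/-!
# The Nakai–Moishezon criterion on a regular surface, in terms of the intersection form;
nef + ample is ample
-/

set_option autoImplicit false
set_option linter.style.haveILetI false
universe u
open CategoryTheory CategoryTheory.Limits AlgebraicGeometry TopologicalSpace Opposite

namespace Groth.Agent.H5.NumRS

open Groth.Agent.LD Groth.Agent.LD.QC Groth.Agent.H5.IntN Groth.Agent.H5.Curve3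
  Groth.Agent.H5.Curve6 Groth.Agent.H5.Snap

variable (k : Type u) [Field k] (X : Scheme.{u}) [X.Over (Spec (CommRingCat.of k))]
  [IsProper (X ↘ Spec (CommRingCat.of k))] [IsIntegral X] [PicGrp.Law X]

/-- **Nakai–Moishezon on a regular surface**: `L² > 0` and `L·C > 0` for all integral curves
imply that `L` is ample. -/
theorem isAmple_of_pos (hdim : topologicalKrullDim X = 2)
    (hreg : ∀ x : X, IsRegularLocalRing (X.presheaf.stalk x))
    (B : NumR.N1R k X →ₗ[ℝ] NumR.N1R k X →ₗ[ℝ] ℝ) (hB : NumR.IsIntForm₂ k X B)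
    (L : X.Modules) (hL : PicF.IsInvertible L)
    (hLL : 0 < B (NumR.clR k X L hL) (NumR.clR k X L hL))
    (hcurves : ∀ (I : X.IdealSheafData), IsIntegral I.subscheme →
      topologicalKrullDim (I.support : Set X) = 1 →
      ∀ hI : PicF.IsInvertible (ClSub.idealMod I),
        0 < B (NumR.clR k X L hL) (NumR.curveCl k X I hI)) : CohB1.IsAmple L := by
  haveI : IsNoetherian X := Groth.Agent.H5.Curve2.isNoetherian_of_proper k X
  have hd2 : topologicalKrullDim X ≤ ((2 : ℕ) : WithBot ℕ∞) := by rw [hdim]; rfl
  obtain ⟨Lb, hLb, ⟨eb⟩⟩ := Groth.Agent.H5.Glue.exists_inverse L hL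
  apply nakai_intNum k 2 hd2 L Lb hL eb
  intro Z hZ d hd hZd
  haveI := hZ
  have hdle : d ≤ 2 := by
    have h1 : topologicalKrullDim (Z.support : Set X) ≤ topologicalKrullDim X :=
      topologicalKrullDim_subspace_le X _
    rw [hZd, hdim] at h1
    exact_mod_cast h1
  obtain rfl | rfl : d = 1 ∨ d = 2 := by omega
  · -- curves
    have hZd1 : topologicalKrullDim (Z.support : Set X) = 1 := by rw [hZd]; rfl
    have hZinv := (isInvertible_idealMod_of_curve k X hdim hreg Z hZ hZd1).2
    have h1 := hcurves Z hZ hZd1 hZinv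
    rw [B_clR_curveCl k X hdim B hB L hL Z hZinv hZd1.le] at h1
    have h2 : 0 < Pic13.curveDeg k (Z.subschemeι ≫ (X ↘ Spec (CommRingCat.of k)))
        ((Scheme.Modules.pullback Z.subschemeι).obj L) := by exact_mod_cast h1
    rw [curveDeg_eq_neg_intNum k 2 hd2 L hL Z (by rw [dim_subscheme_eq]; exact hZd1.le),
      intNum_one_inverse k 2 hd2 L Lb hL hLb eb _ (isCoh_quotMod Z)
        (by rw [support_quotMod]; exact hZd1.le), neg_neg] at h2
    exact h2
  · -- the surface itself
    have huniv : (Z.support : Set X) = Set.univ := by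
      by_contra hne
      have := dim_le_one_of_ne_univ hdim _ Z.support.isClosed hne
      rw [hZd] at this
      exact absurd this (by decide)
    obtain ⟨iso⟩ := nonempty_quotMod_iso_unit Z huniv
    rw [intNum_iso k 2 _ iso]
    have h2 : (fun _ : Fin 2 => Lb) = ![Lb, Lb] := by
      funext i
      fin_cases i <;> rfl
    rw [h2, Groth.Agent.LD.RRS.Kit.intNum_inv_inv k hd2 L Lb L Lb hL hL eb eb]
    have h1 := hB L L hL hL
    rw [h1] at hLL
    exact_mod_cast hLL

/-- **S19731: nef + ample is ample** (real classes on a smooth projective surface). -/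
theorem nef_add_ample [Smooth (X ↘ Spec (CommRingCat.of k))] [Module.Finite ℝ (NumR.N1R k X)]
    (hdim : topologicalKrullDim X = 2)
    (hreg : ∀ x : X, IsRegularLocalRing (X.presheaf.stalk x))
    (B : NumR.N1R k X →ₗ[ℝ] NumR.N1R k X →ₗ[ℝ] ℝ) (hB : NumR.IsIntForm₂ k X B)
    (H : X.Modules) (hH : CohB1.IsAmple H)
    (x y : NumR.N1R k X) (hx : x ∈ NumR.nefCone₂ k X B)
    (hy : y ∈ (NumR.ampleCone k X : Set (NumR.N1R k X))) :
    x + y ∈ (NumR.ampleCone k X : Set (NumR.N1R k X)) := by
  haveI : IsNoetherian X := Groth.Agent.H5.Curve2.isNoetherian_of_proper k X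
  haveI : IsTopologicalAddGroup (NumR.N1R k X) := IsModuleTopology.topologicalAddGroup ℝ _
  have hopen : IsOpen (NumR.ampleCone k X : Set (NumR.N1R k X)) := isOpen_ampleCone k X
  have hconv : Convex ℝ (NumR.ampleCone k X : Set (NumR.N1R k X)) := (NumR.ampleCone k X).convex
  have hint : interior (closure (NumR.ampleCone k X : Set (NumR.N1R k X))) =
      (NumR.ampleCone k X : Set (NumR.N1R k X)) := by
    rw [hconv.interior_closure_eq_interior_of_nonempty_interior
      (by rw [hopen.interior_eq]; exact ⟨y, hy⟩), hopen.interior_eq]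
  -- the open set `x + Amp`
  set O : Set (NumR.N1R k X) := {z | z - x ∈ (NumR.ampleCone k X : Set (NumR.N1R k X))} with hO
  have hOopen : IsOpen O := hopen.preimage (continuous_id.sub continuous_const)
  have hzO : x + y ∈ O := by
    change x + y - x ∈ (NumR.ampleCone k X : Set (NumR.N1R k X))
    rwa [add_sub_cancel_left]
  have hsub : O ∩ {z | IsRat k X z} ⊆ (NumR.ampleCone k X : Set (NumR.N1R k X)) := by
    rintro z ⟨hz, N, hN, μ, hμ⟩
    obtain ⟨L, hL, rfl⟩ := NumR.exists_eq_cl μ
    have hcl : NumR.clR k X L hL = (N : ℝ) • z := hμ.symm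
    have hNpos : (0 : ℝ) < N := by exact_mod_cast hN
    set a := z - x with ha
    have hza : z = x + a := by rw [ha]; abel
    have haA : a ∈ NumR.ampleCone k X := hz
    have haE : a ∈ NumR.effCone k X := ampleCone_le_effCone k X haA
    have haP := ampleCone_subset_posCone k X hdim B hB H hH haA
    have hxx := nef_sq_nonneg k X hdim hreg B hB H hH x hx
    have hxa := nef_eff_nonneg k X hdim hreg B hB x hx a haE
    have hax : B a x = B x a := isIntForm_symm B hB _ _
    have hzz : 0 < B z z := by
      rw [hza]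
      simp only [map_add, LinearMap.add_apply, hax]
      have := haP.1
      linarith
    have hamp : CohB1.IsAmple L := by
      apply isAmple_of_pos k X hdim hreg B hB L hL
      · rw [hcl]
        simp only [map_smul, LinearMap.smul_apply, smul_eq_mul]
        positivity
      · intro I hI hId hIinv
        rw [hcl, map_smul, LinearMap.smul_apply, smul_eq_mul]
        apply mul_pos hNpos
        rw [hza, map_add, LinearMap.add_apply]
        have h1 := hx I hI hId hIinv
        have h2 := B_ample_curveCl_pos k X hdim B hB I hIinv hId a haA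
        linarith
    have h1 : NumR.clR k X L hL ∈ NumR.ampleCone k X := clR_mem_ampleCone hamp
    rw [hcl] at h1
    have h2 := (NumR.ampleCone k X).smul_mem (inv_pos.mpr hNpos) h1
    rwa [smul_smul, inv_mul_cancel₀ hNpos.ne', one_smul] at h2
  have hOcl : O ⊆ closure (NumR.ampleCone k X : Set (NumR.N1R k X)) := fun z hz =>
    closure_mono hsub ((dense_isRat k X).open_subset_closure_inter hOopen hz)
  have := interior_maximal hOcl hOopen hzO
  rwa [hint] at this

end Groth.Agent.H5.NumRS
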