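import Mathlib
import Groth.Prelude.Def_NumR
import Groth.Agent.Lib.Helper5.NumRS.NM

/-!
# The closure of the ample cone of a surface is the nef cone
-/

set_option autoImplicit false
set_option linter.style.haveILetI false
universe u
open CategoryTheory CategoryTheory.Limits AlgebraicGeometry TopologicalSpace Opposite

namespace Groth.Agent.H5.NumRS

open Groth.Agent.LD Groth.Agent.LD.QC Groth.Agent.H5.IntN Groth.Agent.H5.Curve3
  Groth.Agent.H5.Curve6 Groth.Agent.H5.Snap

variable (k : Type u) [Field k] (X : Scheme.{u}) [X.Over (Spec (CommRingCat.of k))]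
  [IsProper (X ↘ Spec (CommRingCat.of k))] [Smooth (X ↘ Spec (CommRingCat.of k))]
  [IsIntegral X] [PicGrp.Law X]

/-- the nef cone is closed. -/
theorem isClosed_nefCone (B : NumR.N1R k X →ₗ[ℝ] NumR.N1R k X →ₗ[ℝ] ℝ) :
    IsClosed (NumR.nefCone₂ k X B) := by
  have h : NumR.nefCone₂ k X B = ⋂ (I : X.IdealSheafData) (_ : IsIntegral I.subscheme)
      (_ : topologicalKrullDim (I.support : Set X) = 1)
      (hI : PicF.IsInvertible (ClSub.idealMod I)), {x | 0 ≤ B x (NumR.curveCl k X I hI)} := by
    ext x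
    simp only [NumR.nefCone₂, Set.mem_setOf_eq, Set.mem_iInter]
  rw [h]
  refine isClosed_iInter fun I => isClosed_iInter fun _ => isClosed_iInter fun _ =>
    isClosed_iInter fun hI => ?_
  exact isClosed_le continuous_const
    (IsModuleTopology.continuous_of_linearMap (B.flip (NumR.curveCl k X I hI)))

/-- ample classes are nef. -/
theorem ampleCone_subset_nefCone (hdim : topologicalKrullDim X = 2)
    (B : NumR.N1R k X →ₗ[ℝ] NumR.N1R k X →ₗ[ℝ] ℝ) (hB : NumR.IsIntForm₂ k X B) :
    (NumR.ampleCone k X : Set (NumR.N1R k X)) ⊆ NumR.nefCone₂ k X B := by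
  intro a ha I hI hId hIinv
  exact (B_ample_curveCl_pos k X hdim B hB I hIinv hId a ha).le

/-- **the closure of the ample cone is the nef cone.** -/
theorem closure_ampleCone [Module.Finite ℝ (NumR.N1R k X)]
    (hdim : topologicalKrullDim X = 2)
    (hreg : ∀ x : X, IsRegularLocalRing (X.presheaf.stalk x))
    (B : NumR.N1R k X →ₗ[ℝ] NumR.N1R k X →ₗ[ℝ] ℝ) (hB : NumR.IsIntForm₂ k X B)
    (H : X.Modules) (hH : CohB1.IsAmple H) :
    closure (NumR.ampleCone k X : Set (NumR.N1R k X)) = NumR.nefCone₂ k X B := by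
  apply Set.Subset.antisymm
  · exact closure_minimal (ampleCone_subset_nefCone k X hdim B hB) (isClosed_nefCone k X B)
  · intro x hx
    let f : ℝ → NumR.N1R k X := fun ε => x + ε • NumR.clR k X H hH.1
    have hf : Continuous f := by fun_prop
    have h0 : (0 : ℝ) ∈ closure (Set.Ioi (0 : ℝ)) := by rw [closure_Ioi]; exact Set.self_mem_Ici
    have hmaps : Set.MapsTo f (Set.Ioi 0) (NumR.ampleCone k X : Set (NumR.N1R k X)) := by
      intro ε hε
      exact nef_add_ample k X hdim hreg B hB H hH x _ hx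
        ((NumR.ampleCone k X).smul_mem hε (clR_mem_ampleCone hH))
    have := map_mem_closure hf h0 hmaps
    simpa [f] using this

/-- **S19734.** -/
theorem closure_ampleCone_main [Module.Finite ℝ (NumR.N1R k X)]
    (hdim : topologicalKrullDim X = 2)
    (hreg : ∀ x : X, IsRegularLocalRing (X.presheaf.stalk x))
    (B : NumR.N1R k X →ₗ[ℝ] NumR.N1R k X →ₗ[ℝ] ℝ) (hB : NumR.IsIntForm₂ k X B)
    (H : X.Modules) (hH : CohB1.IsAmple H) :
    closure (NumR.ampleCone k X : Set (NumR.N1R k X)) =
        {x | 0 ≤ B x x ∧ x ∈ NumR.nefCone₂ k X B} ∧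
      closure (NumR.ampleCone k X : Set (NumR.N1R k X)) ∩ NumR.posCone k X B H hH.1 =
        {x | 0 < B x x ∧ x ∈ NumR.nefCone₂ k X B} := by
  haveI : IsNoetherian X := Groth.Agent.H5.Curve2.isNoetherian_of_proper k X
  have hcl := closure_ampleCone k X hdim hreg B hB H hH
  constructor
  · rw [hcl]
    ext x
    exact ⟨fun hx => ⟨nef_sq_nonneg k X hdim hreg B hB H hH x hx, hx⟩, fun hx => hx.2⟩
  · rw [hcl]
    ext x
    constructor
    · rintro ⟨hx, hxx, -⟩
      exact ⟨hxx, hx⟩
    · rintro ⟨hxx, hx⟩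
      refine ⟨hx, hxx, ?_⟩
      have hb : 0 ≤ B x (NumR.clR k X H hH.1) :=
        nef_eff_nonneg k X hdim hreg B hB x hx _
          (ampleCone_le_effCone k X (clR_mem_ampleCone hH))
      rcases hb.eq_or_lt with h0 | hpos
      · exfalso
        have h1 := real_hodge k X hdim B hB H hH x
        rw [← h0] at h1
        have ha := ample_sq_pos k X hdim B hB H hH
        have : 0 < B x x * B (NumR.clR k X H hH.1) (NumR.clR k X H hH.1) := mul_pos hxx ha
        nlinarith
      · exact hpos

end Groth.Agent.H5.NumRS
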