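import Mathlib
import Groth.Prelude.Def_NumR
import Groth.Agent.Lib.Helper5.NumRS.Nef
import Groth.Agent.Lib.Helper5.IntN.Num5

/-!
# Nondegeneracy of the intersection form on `N¹(X)_ℝ` of a regular surface
-/

set_option autoImplicit false
set_option linter.style.haveILetI false
universe u
open CategoryTheory CategoryTheory.Limits AlgebraicGeometry TopologicalSpace Opposite

namespace Groth.Agent.H5.NumRS

open Groth.Agent.LD Groth.Agent.LD.QC Groth.Agent.H5.IntN Groth.Agent.H5.Curve3
  Groth.Agent.H5.Curve6 Groth.Agent.H5.Snap Groth.Agent.H5.DegC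

/-- a real left-kernel vector of an integer matrix gives an integer one. -/
theorem exists_int_kernel {ι : Type*} [Fintype ι] [DecidableEq ι] (g : Matrix ι ι ℤ) (c : ι → ℝ)
    (hc : c ≠ 0) (h : ∀ j, ∑ i, c i * (g i j : ℝ) = 0) :
    ∃ a : ι → ℤ, a ≠ 0 ∧ ∀ j, ∑ i, a i * g i j = 0 := by
  have h1 : ∃ v ≠ 0, Matrix.vecMul v ((Int.castRingHom ℝ).mapMatrix g) = 0 := by
    refine ⟨c, hc, ?_⟩
    funext j
    simpa [Matrix.vecMul, dotProduct] using h j
  have h2 := Matrix.exists_vecMul_eq_zero_iff.mp h1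
  rw [← RingHom.map_det] at h2
  have h3 : g.det = 0 := by
    have : ((g.det : ℤ) : ℝ) = 0 := h2
    exact_mod_cast this
  obtain ⟨a, ha, hag⟩ := Matrix.exists_vecMul_eq_zero_iff.mpr h3
  refine ⟨a, ha, fun j => ?_⟩
  have := congrFun hag j
  simpa [Matrix.vecMul, dotProduct] using this

variable (k : Type u) [Field k] (X : Scheme.{u}) [X.Over (Spec (CommRingCat.of k))]
  [IsProper (X ↘ Spec (CommRingCat.of k))] [IsIntegral X] [PicGrp.Law X]

/-- an invertible module of degree zero on all the curves `closure {ξ}` is numerically trivial. -/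
theorem isNumEquivZero_of_cC (hdim : topologicalKrullDim X = 2)
    (hreg : ∀ x : X, IsRegularLocalRing (X.presheaf.stalk x))
    (B : NumR.N1R k X →ₗ[ℝ] NumR.N1R k X →ₗ[ℝ] ℝ) (hB : NumR.IsIntForm₂ k X B)
    (M : X.Modules) (hM : PicF.IsInvertible M)
    (h : ∀ ξ : X, topologicalKrullDim ↥(closure ({ξ} : Set X)) = 1 →
      B (NumR.clR k X M hM) (cC k X hdim hreg ξ) = 0) : Pic13.IsNumEquivZero k X M := by
  intro Y i _ hYint hYdim
  haveI := hYint
  letI : Y.Over (Spec (CommRingCat.of k)) := overOf k i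
  haveI : IsProper (Y ↘ Spec (CommRingCat.of k)) := by
    change IsProper (i ≫ (X ↘ Spec (CommRingCat.of k)))
    infer_instance
  set ξ := i (genericPoint Y) with hξ
  haveI := isIntegral_vI ξ
  obtain ⟨-, e, -, -, hdeg⟩ := exists_curveDeg_pullback k hYdim.le i rfl (vI ξ).subschemeι
    (subschemeι_genericPoint_vI ξ).symm
  have h1 := hdeg M hM
  change Pic13.curveDeg k (i ≫ (X ↘ Spec (CommRingCat.of k))) _ = _ at h1
  rw [h1]
  have hξd : topologicalKrullDim ↥(closure ({ξ} : Set X)) = 1 := by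
    rw [dim_closure_image_genericPoint i, hYdim]
  have h2 := h ξ hξd
  rw [B_clR_cC k X hdim hreg B hB M hM ξ hξd] at h2
  have h3 : Pic13.curveDeg k ((vI ξ).subschemeι ≫ (X ↘ Spec (CommRingCat.of k)))
      ((Scheme.Modules.pullback (vI ξ).subschemeι).obj M) = 0 := by exact_mod_cast h2
  rw [h3, mul_zero]

/-- **the intersection form on `N¹(X)_ℝ` of a regular projective surface is nondegenerate.** -/
theorem nondegenerate [Module.Finite ℝ (NumR.N1R k X)] (hdim : topologicalKrullDim X = 2)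
    (hreg : ∀ x : X, IsRegularLocalRing (X.presheaf.stalk x))
    (B : NumR.N1R k X →ₗ[ℝ] NumR.N1R k X →ₗ[ℝ] ℝ) (hB : NumR.IsIntForm₂ k X B)
    (y : NumR.N1R k X) (hy : ∀ z, B y z = 0) : y = 0 := by
  classical
  by_contra hy0
  have hs : ⊤ ≤ Submodule.span ℝ {x : NumR.N1R k X | ∃ (L : X.Modules)
      (hL : PicF.IsInvertible L), x = NumR.clR k X L hL} := NumR.span_clR.ge
  let b := Module.Basis.ofSpan hs
  haveI : Finite _ := Module.Finite.finite_basis b
  haveI : Fintype _ := Fintype.ofFinite ((linearIndepOn_empty ℝ id).extend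
    (Set.empty_subset {x : NumR.N1R k X | ∃ (L : X.Modules)
      (hL : PicF.IsInvertible L), x = NumR.clR k X L hL}))
  have hbS : ∀ i, ∃ (L : X.Modules) (hL : PicF.IsInvertible L), b i = NumR.clR k X L hL :=
    fun i => Module.Basis.ofSpan_subset hs ⟨i, rfl⟩
  choose L hL hbL using hbS
  let g : Matrix _ _ ℤ := fun i j => FGA.intNum k X 2 ![L i, L j] (Coh.structureModule X)
  have hg : ∀ i j, B (b i) (b j) = (g i j : ℝ) := by
    intro i j
    rw [hbL i, hbL j, hB]
  have hc0 : (fun i => b.repr y i) ≠ 0 := by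
    intro h0
    apply hy0
    rw [← b.sum_repr y]
    apply Finset.sum_eq_zero
    intro i _
    rw [show b.repr y i = 0 from congrFun h0 i, zero_smul]
  have hker : ∀ j, ∑ i, b.repr y i * (g i j : ℝ) = 0 := by
    intro j
    have h1 := hy (b j)
    rw [← b.sum_repr y, map_sum, LinearMap.sum_apply] at h1
    simpa [hg] using h1
  obtain ⟨a, ha, hag⟩ := exists_int_kernel g _ hc0 hker
  -- the integral class
  obtain ⟨M, hM, hμ⟩ := NumR.exists_eq_cl (∑ i, a i • NumR.cl k X (L i) (hL i))
  have hw : NumR.clR k X M hM = ∑ i, (a i : ℝ) • b i := by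
    rw [NumR.clR_def, ← hμ, map_sum]
    apply Finset.sum_congr rfl
    intro i _
    rw [map_zsmul, hbL i, NumR.clR_def, Int.cast_smul_eq_zsmul]
  have hwb : ∀ j, B (NumR.clR k X M hM) (b j) = 0 := by
    intro j
    rw [hw, map_sum, LinearMap.sum_apply]
    have h1 : ∀ i, B ((a i : ℝ) • b i) (b j) = ((a i * g i j : ℤ) : ℝ) := by
      intro i
      rw [map_smul, LinearMap.smul_apply, smul_eq_mul, hg]
      push_cast
      ring
    simp_rw [h1]
    rw [← Int.cast_sum, hag j, Int.cast_zero]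
  have hwz : ∀ z, B (NumR.clR k X M hM) z = 0 := by
    intro z
    have : B (NumR.clR k X M hM) = 0 := b.ext (fun j => by simpa using hwb j)
    rw [this, LinearMap.zero_apply]
  have hnum : Pic13.IsNumEquivZero k X M :=
    isNumEquivZero_of_cC k X hdim hreg B hB M hM (fun ξ _ => hwz _)
  have hcl0 : NumR.cl k X M hM = 0 := NumR.cl_eq_zero hM hnum
  have hw0 : ∑ i, (a i : ℝ) • b i = 0 := by
    rw [← hw, NumR.clR_def, hcl0, map_zero]
  have := (Fintype.linearIndependent_iff.mp b.linearIndependent) (fun i => (a i : ℝ)) hw0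
  apply ha
  funext i
  exact_mod_cast this i

end Groth.Agent.H5.NumRS
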