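import Mathlib
import Groth.Prelude.Def_NumR
import Groth.Agent.Lib.Helper5.NumRS.ND
import Groth.Agent.Lib.Helper5.NumRS.A
import Groth.Agent.Lib.Helper5.NumRS.B

/-!
# The light cone lemma on a surface (S19727)
-/

set_option autoImplicit false
set_option linter.style.haveILetI false
universe u
open CategoryTheory CategoryTheory.Limits AlgebraicGeometry TopologicalSpace Opposite

namespace Groth.Agent.H5.NumRS

section LinAlg

variable {V : Type*} [AddCommGroup V] [Module ℝ V]

/-- **Hodge index, orthogonal form**: if `B` satisfies the reverse Cauchy–Schwarz inequality against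
`h` with `h² > 0`, then `B` is negative semidefinite on the orthogonal of any `x` with `x² > 0`. -/
theorem orth_sq_nonpos (B : V →ₗ[ℝ] V →ₗ[ℝ] ℝ) (hsym : ∀ u v, B u v = B v u) (h : V)
    (ha : 0 < B h h) (hodge : ∀ u, B u u * B h h ≤ (B u h) ^ 2) (x : V) (hxx : 0 < B x x)
    (u : V) (hux : B u x = 0) : B u u ≤ 0 := by
  by_contra hpos
  push Not at hpos
  set w := (B u h) • x - (B x h) • u with hw
  have hwh : B w h = 0 := by
    rw [hw, map_sub, LinearMap.sub_apply, map_smul, map_smul, LinearMap.smul_apply,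
      LinearMap.smul_apply, smul_eq_mul, smul_eq_mul]
    ring
  have hww : B w w = (B u h) ^ 2 * B x x + (B x h) ^ 2 * B u u := by
    have hxu : B x u = 0 := by rw [hsym]; exact hux
    rw [hw]
    simp only [map_sub, map_smul, LinearMap.sub_apply, LinearMap.smul_apply, smul_eq_mul, hux, hxu]
    ring
  have h1 := hodge w
  rw [hwh] at h1
  have h2 : B w w ≤ 0 := by
    by_contra h3
    push Not at h3
    have := mul_pos h3 ha
    nlinarith
  rw [hww] at h2
  have h4 : 0 ≤ (B u h) ^ 2 * B x x := by positivity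
  have h5 : 0 ≤ (B x h) ^ 2 * B u u := by positivity
  have h6 : (B x h) ^ 2 * B u u = 0 := by linarith
  have h7 : B x h = 0 := by
    rcases mul_eq_zero.mp h6 with h | h
    · exact pow_eq_zero_iff (two_ne_zero) |>.mp h
    · exact absurd h hpos.ne'
  have h8 := hodge x
  rw [h7] at h8
  have := mul_pos hxx ha
  nlinarith

/-- **the light cone lemma.** -/
theorem light_cone (B : V →ₗ[ℝ] V →ₗ[ℝ] ℝ) (hsym : ∀ u v, B u v = B v u) (h : V)
    (ha : 0 < B h h) (hodge : ∀ u, B u u * B h h ≤ (B u h) ^ 2)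
    (hnd : ∀ y, (∀ z, B y z = 0) → y = 0) (x y : V) (hxx : 0 < B x x)
    (hyy : 0 ≤ B y y) (hxy : B x y = 0) : y = 0 := by
  apply hnd
  intro v
  have hyx : B y x = 0 := by rw [hsym]; exact hxy
  set v' := v - (B v x / B x x) • x with hv'
  have hv'x : B v' x = 0 := by
    rw [hv', map_sub, LinearMap.sub_apply, map_smul, LinearMap.smul_apply, smul_eq_mul]
    field_simp
    ring
  have hyv' : B y v' = B y v := by
    rw [hv', map_sub, map_smul, smul_eq_mul, hyx, mul_zero, sub_zero]
  rw [← hyv']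
  set p := B y v' with hp
  set q := B v' v' with hq
  have hyy0 : B y y = 0 :=
    le_antisymm (orth_sq_nonpos B hsym h ha hodge x hxx y hyx) hyy
  have key : ∀ t : ℝ, 2 * t * p + t ^ 2 * q ≤ 0 := by
    intro t
    have h1 : B (y + t • v') x = 0 := by
      rw [map_add, LinearMap.add_apply, map_smul, LinearMap.smul_apply, hyx, hv'x]
      simp
    have h2 := orth_sq_nonpos B hsym h ha hodge x hxx _ h1
    have h3 : B (y + t • v') (y + t • v') = 2 * t * p + t ^ 2 * q := by
      have hv'y : B v' y = p := by rw [hsym]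
      simp only [map_add, map_smul, LinearMap.add_apply, LinearMap.smul_apply, smul_eq_mul,
        hyy0, hv'y]
      rw [← hp, ← hq]
      ring
    rwa [h3] at h2
  -- take `t = s p` with `s` small
  have hs : 0 < 1 / (|q| + 1) := by positivity
  have h4 := key ((1 / (|q| + 1)) * p)
  have h5 : 2 * ((1 / (|q| + 1)) * p) * p + ((1 / (|q| + 1)) * p) ^ 2 * q =
      (1 / (|q| + 1)) * p ^ 2 * (2 + (1 / (|q| + 1)) * q) := by ring
  rw [h5] at h4
  have h6 : -1 ≤ (1 / (|q| + 1)) * q := by
    have h7 : -(|q| + 1) ≤ q := by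
      have := neg_abs_le q
      linarith
    have h8 : (1 / (|q| + 1)) * (-(|q| + 1)) ≤ (1 / (|q| + 1)) * q :=
      mul_le_mul_of_nonneg_left h7 hs.le
    have h9 : (1 / (|q| + 1)) * (-(|q| + 1)) = -1 := by
      field_simp
    linarith
  have h10 : 0 < 2 + (1 / (|q| + 1)) * q := by linarith
  have h11 : (1 / (|q| + 1)) * p ^ 2 ≤ 0 := by
    by_contra h12
    push Not at h12
    have := mul_pos h12 h10
    linarith
  have h13 : p ^ 2 ≤ 0 := by
    by_contra h14
    push Not at h14
    have := mul_pos hs h14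
    linarith
  have h15 : p ^ 2 = 0 := le_antisymm h13 (sq_nonneg p)
  exact pow_eq_zero_iff (two_ne_zero) |>.mp h15

end LinAlg

variable (k : Type u) [Field k] (X : Scheme.{u}) [X.Over (Spec (CommRingCat.of k))]
  [IsProper (X ↘ Spec (CommRingCat.of k))] [Smooth (X ↘ Spec (CommRingCat.of k))]
  [IsIntegral X] [PicGrp.Law X]

/-- **S19727.** -/
theorem light_cone_surface [Module.Finite ℝ (NumR.N1R k X)] (hdim : topologicalKrullDim X = 2)
    (hreg : ∀ x : X, IsRegularLocalRing (X.presheaf.stalk x))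
    (B : NumR.N1R k X →ₗ[ℝ] NumR.N1R k X →ₗ[ℝ] ℝ) (hB : NumR.IsIntForm₂ k X B)
    (H : X.Modules) (hH : CohB1.IsAmple H) (x y : NumR.N1R k X)
    (hx : x ∈ NumR.posCone k X B H hH.1) (hy : 0 ≤ B y y) (hxy : B x y = 0) : y = 0 :=
  light_cone B (isIntForm_symm B hB) (NumR.clR k X H hH.1) (ample_sq_pos k X hdim B hB H hH)
    (real_hodge k X hdim B hB H hH) (nondegenerate k X hdim hreg B hB) x y hx.1 hy hxy

end Groth.Agent.H5.NumRS
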