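import Mathlib

/-!
# Linear algebra of negative definite integral forms with nonnegative off-diagonal entries
-/

set_option autoImplicit false
open Finset

namespace Groth.Agent.H5.NumRS

/-- a rational vector has a common denominator. -/
theorem exists_common_den {r : ℕ} (q : Fin r → ℚ) :
    ∃ (N : ℕ) (a : Fin r → ℤ), 0 < N ∧ ∀ i, (q i : ℝ) = (a i : ℝ) / (N : ℝ) := by
  classical
  refine ⟨∏ j, (q j).den, fun i => (q i).num * ∏ j ∈ univ.erase i, ((q j).den : ℤ),
    Finset.prod_pos (fun j _ => (q j).den_pos), fun i => ?_⟩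
  have h1 : (∏ j, (q j).den : ℕ) = (q i).den * ∏ j ∈ univ.erase i, (q j).den :=
    (Finset.mul_prod_erase univ (fun j => (q j).den) (mem_univ i)).symm
  have hden : ((q i).den : ℝ) ≠ 0 := by exact_mod_cast (q i).den_nz
  have hprod : ((∏ j ∈ univ.erase i, (q j).den : ℕ) : ℝ) ≠ 0 := by
    have : 0 < ∏ j ∈ univ.erase i, (q j).den := Finset.prod_pos (fun j _ => (q j).den_pos)
    exact_mod_cast this.ne'
  have hq : (q i : ℝ) = ((q i).num : ℝ) / ((q i).den : ℝ) := by
    have := Rat.num_div_den (q i)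
    have h2 : ((q i : ℚ) : ℝ) = (((q i).num : ℚ) / ((q i).den : ℚ) : ℚ) := by rw [this]
    rw [h2]; push_cast; rfl
  rw [h1, hq]
  push_cast
  field_simp

/-- an integral quadratic form which is negative on nonzero integer vectors is negative semidefinite
on real vectors. -/
theorem negSemidef_of_int {r : ℕ} (G : Matrix (Fin r) (Fin r) ℤ)
    (hneg : ∀ a : Fin r → ℤ, a ≠ 0 → ∑ i, ∑ j, a i * a j * G i j < 0) (c : Fin r → ℝ) :
    ∑ i, ∑ j, c i * c j * (G i j : ℝ) ≤ 0 := by
  have hcont : Continuous fun c : Fin r → ℝ => ∑ i, ∑ j, c i * c j * (G i j : ℝ) := by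
    fun_prop
  have hclosed : IsClosed {c : Fin r → ℝ | ∑ i, ∑ j, c i * c j * (G i j : ℝ) ≤ 0} :=
    isClosed_le hcont continuous_const
  have hdense : DenseRange (Pi.map fun (_ : Fin r) (q : ℚ) => (q : ℝ)) :=
    DenseRange.piMap fun _ => Rat.denseRange_cast
  refine hdense.induction_on (p := fun c => ∑ i, ∑ j, c i * c j * (G i j : ℝ) ≤ 0) c hclosed ?_
  intro q
  obtain ⟨N, a, hN, hqa⟩ := exists_common_den q
  have hNr : (0 : ℝ) < N := by exact_mod_cast hN
  have h1 : ∑ i, ∑ j, (Pi.map (fun (_ : Fin r) (q : ℚ) => (q : ℝ)) q) i *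
      (Pi.map (fun (_ : Fin r) (q : ℚ) => (q : ℝ)) q) j * (G i j : ℝ) =
      ((∑ i, ∑ j, a i * a j * G i j : ℤ) : ℝ) / (N : ℝ) ^ 2 := by
    push_cast
    rw [Finset.sum_div]
    apply Finset.sum_congr rfl
    intro i _
    rw [Finset.sum_div]
    apply Finset.sum_congr rfl
    intro j _
    simp only [Pi.map_apply]
    rw [hqa i, hqa j]
    field_simp
  rw [h1]
  apply div_nonpos_of_nonpos_of_nonneg _ (by positivity)
  by_cases ha : a = 0
  · subst ha
    simp
  · exact_mod_cast (hneg a ha).le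

/-- **sign lemma**: for a real symmetric-free matrix `G` with nonnegative off-diagonal entries and
negative semidefinite quadratic form, a solution `b` of `G b = t` with `t < 0` is nonnegative. -/
theorem nonneg_of_solve {r : ℕ} (G : Matrix (Fin r) (Fin r) ℝ)
    (hoff : ∀ i j, i ≠ j → 0 ≤ G i j)
    (hsemi : ∀ c : Fin r → ℝ, ∑ i, ∑ j, c i * c j * G i j ≤ 0)
    (t : Fin r → ℝ) (ht : ∀ i, t i < 0) (b : Fin r → ℝ)
    (hb : ∀ i, ∑ j, G i j * b j = t i) : ∀ i, 0 ≤ b i := by
  set n : Fin r → ℝ := fun i => max (-(b i)) 0 with hn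
  set p : Fin r → ℝ := fun i => max (b i) 0 with hp
  have hn0 : ∀ i, 0 ≤ n i := fun i => le_max_right _ _
  have hp0 : ∀ i, 0 ≤ p i := fun i => le_max_right _ _
  have hpn : ∀ i, b i = p i - n i := fun i => (max_zero_sub_max_neg_zero_eq_self (b i)).symm
  have hpn0 : ∀ i, n i * p i = 0 := by
    intro i
    simp only [hn, hp]
    rcases le_total (b i) 0 with h | h
    · rw [max_eq_right h, mul_zero]
    · rw [max_eq_right (by linarith : -(b i) ≤ 0), zero_mul]
  -- the number `S = Σ n_i t_i`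
  have hS1 : ∑ i, n i * t i ≤ 0 :=
    Finset.sum_nonpos (fun i _ => mul_nonpos_of_nonneg_of_nonpos (hn0 i) (ht i).le)
  have hS2 : ∑ i, n i * t i = ∑ i, ∑ j, n i * p j * G i j - ∑ i, ∑ j, n i * n j * G i j := by
    rw [← Finset.sum_sub_distrib]
    apply Finset.sum_congr rfl
    intro i _
    rw [← hb i, Finset.mul_sum, ← Finset.sum_sub_distrib]
    apply Finset.sum_congr rfl
    intro j _
    rw [hpn j]
    ring
  have hS3 : 0 ≤ ∑ i, ∑ j, n i * p j * G i j := by
    apply Finset.sum_nonneg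
    intro i _
    apply Finset.sum_nonneg
    intro j _
    by_cases hij : i = j
    · subst hij
      rw [hpn0 i, zero_mul]
    · exact mul_nonneg (mul_nonneg (hn0 i) (hp0 j)) (hoff i j hij)
  have hS4 := hsemi n
  have hS5 : ∑ i, n i * t i = 0 := by linarith
  intro i
  have h1 : ∀ j ∈ (univ : Finset (Fin r)), n j * t j ≤ 0 :=
    fun j _ => mul_nonpos_of_nonneg_of_nonpos (hn0 j) (ht j).le
  have h2 := (Finset.sum_eq_zero_iff_of_nonpos h1).mp hS5 i (mem_univ i)
  have h3 : n i = 0 := by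
    rcases mul_eq_zero.mp h2 with h | h
    · exact h
    · exact absurd h (ht i).ne
  have h4 : -(b i) ≤ 0 := by
    have : max (-(b i)) 0 = 0 := h3
    exact (max_eq_right_iff.mp this)
  linarith

/-- **independence lemma**: if `Σ aᵢ vᵢ = 0` where the `vᵢ` pair nonnegatively off the diagonal,
the form is nonpositive on the combinations, vanishing only at zero, and a functional `ℓ` is
positive on every `vᵢ`, then `a = 0`.  Stated with abstract pairing data. -/
theorem coeff_zero_of_comb_zero {r : ℕ} {V : Type*} [AddCommGroup V] [Module ℝ V]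
    (B : V →ₗ[ℝ] V →ₗ[ℝ] ℝ) (v : Fin r → V) (h : V)
    (hoff : ∀ i j, i ≠ j → 0 ≤ B (v i) (v j))
    (hnonpos : ∀ c : Fin r → ℝ, B (∑ i, c i • v i) (∑ i, c i • v i) ≤ 0)
    (hzero : ∀ c : Fin r → ℝ, B (∑ i, c i • v i) (∑ i, c i • v i) = 0 → ∑ i, c i • v i = 0)
    (hpos : ∀ i, 0 < B (v i) h) (a : Fin r → ℝ) (ha : ∑ i, a i • v i = 0) : a = 0 := by
  set n : Fin r → ℝ := fun i => max (-(a i)) 0 with hn
  set p : Fin r → ℝ := fun i => max (a i) 0 with hp
  have hn0 : ∀ i, 0 ≤ n i := fun i => le_max_right _ _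
  have hp0 : ∀ i, 0 ≤ p i := fun i => le_max_right _ _
  have hpn : ∀ i, a i = p i - n i := fun i => (max_zero_sub_max_neg_zero_eq_self (a i)).symm
  have hpn0 : ∀ i, p i * n i = 0 := by
    intro i
    simp only [hn, hp]
    rcases le_total (a i) 0 with h | h
    · rw [max_eq_right h, zero_mul]
    · rw [max_eq_right (by linarith : -(a i) ≤ 0), mul_zero]
  have hPN : ∑ i, p i • v i = ∑ i, n i • v i := by
    have : ∑ i, a i • v i = ∑ i, p i • v i - ∑ i, n i • v i := by
      rw [← Finset.sum_sub_distrib]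
      apply Finset.sum_congr rfl
      intro i _
      rw [hpn i, sub_smul]
    rw [this] at ha
    exact sub_eq_zero.mp ha
  have hPP : 0 ≤ B (∑ i, p i • v i) (∑ i, p i • v i) := by
    have hrw : B (∑ i, p i • v i) (∑ i, p i • v i) =
        B (∑ i, p i • v i) (∑ i, n i • v i) := by rw [← hPN]
    rw [hrw]
    simp only [map_sum, map_smul, LinearMap.sum_apply, LinearMap.smul_apply, smul_eq_mul]
    apply Finset.sum_nonneg
    intro j _
    rw [Finset.mul_sum]
    apply Finset.sum_nonneg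
    intro i _
    by_cases hij : i = j
    · subst hij
      rw [← mul_assoc, mul_comm (n i), hpn0 i, zero_mul]
    · exact mul_nonneg (hn0 j) (mul_nonneg (hp0 i) (hoff i j hij))
  have hP0 : ∑ i, p i • v i = 0 := hzero p (le_antisymm (hnonpos p) hPP)
  have hN0 : ∑ i, n i • v i = 0 := by rw [← hPN, hP0]
  have key : ∀ c : Fin r → ℝ, (∀ i, 0 ≤ c i) → ∑ i, c i • v i = 0 → ∀ i, c i = 0 := by
    intro c hc0 hc i
    have h1 : B (∑ i, c i • v i) h = 0 := by rw [hc]; simp
    rw [map_sum, LinearMap.sum_apply] at h1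
    have h2 : ∀ j ∈ (univ : Finset (Fin r)), 0 ≤ B (c j • v j) h := by
      intro j _
      rw [map_smul, LinearMap.smul_apply, smul_eq_mul]
      exact mul_nonneg (hc0 j) (hpos j).le
    have h3 := (Finset.sum_eq_zero_iff_of_nonneg h2).mp h1 i (mem_univ i)
    rw [map_smul, LinearMap.smul_apply, smul_eq_mul] at h3
    rcases mul_eq_zero.mp h3 with h | h
    · exact h
    · exact absurd h (hpos i).ne'
  funext i
  rw [hpn i, key p hp0 hP0 i, key n hn0 hN0 i]
  simp

end Groth.Agent.H5.NumRS
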