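import Mathlib
import Groth.Prelude.Def_NumR
import Groth.Agent.Lib.Helper5.NumRS.ND
import Groth.Agent.Lib.Helper5.NumRS.B

/-!
# Negative definite configurations of curves and the Picard number (S19736)
-/

set_option autoImplicit false
set_option linter.style.haveILetI false
universe u
open CategoryTheory CategoryTheory.Limits AlgebraicGeometry TopologicalSpace Opposite

namespace Groth.Agent.H5.NumRS

variable (k : Type u) [Field k] (X : Scheme.{u}) [X.Over (Spec (CommRingCat.of k))]
  [IsProper (X ↘ Spec (CommRingCat.of k))] [Smooth (X ↘ Spec (CommRingCat.of k))]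
  [IsIntegral X] [PicGrp.Law X]

/-- **S19736**: `r` invertible modules spanning a negative definite lattice, together with an
ample class, are linearly independent in `N¹(X)_ℝ`. -/
theorem finrank_of_negDef [Module.Finite ℝ (NumR.N1R k X)] (hdim : topologicalKrullDim X = 2)
    (B : NumR.N1R k X →ₗ[ℝ] NumR.N1R k X →ₗ[ℝ] ℝ) (hB : NumR.IsIntForm₂ k X B)
    (H : X.Modules) (hH : CohB1.IsAmple H)
    (r : ℕ) (M : Fin r → X.Modules) (hM : ∀ i, PicF.IsInvertible (M i))
    (hneg : ∀ a : Fin r → ℤ, a ≠ 0 →
      ∑ i, ∑ j, a i * a j * FGA.intNum k X 2 ![M i, M j] (Coh.structureModule X) < 0) :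
    r + 1 ≤ Module.finrank ℝ (NumR.N1R k X) := by
  classical
  set h := NumR.clR k X H hH.1 with hh
  have ha : 0 < B h h := ample_sq_pos k X hdim B hB H hH
  let Lw : Fin (r + 1) → X.Modules := Fin.cons H M
  have hLw : ∀ i, PicF.IsInvertible (Lw i) := by
    intro i
    refine Fin.cases ?_ (fun j => ?_) i
    · exact hH.1
    · exact hM j
  let w : Fin (r + 1) → NumR.N1R k X := fun i => NumR.clR k X (Lw i) (hLw i)
  have hw0 : w 0 = h := rfl
  have hwS : ∀ j : Fin r, w j.succ = NumR.clR k X (M j) (hM j) := fun j => rfl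
  let g : Matrix (Fin (r + 1)) (Fin (r + 1)) ℤ :=
    fun i j => FGA.intNum k X 2 ![Lw i, Lw j] (Coh.structureModule X)
  have hg : ∀ i j, B (w i) (w j) = (g i j : ℝ) := fun i j => hB _ _ _ _
  have hli : LinearIndependent ℝ w := by
    rw [Fintype.linearIndependent_iff]
    intro c hc
    by_contra hcne
    push Not at hcne
    have hc0 : c ≠ 0 := by
      obtain ⟨i, hi⟩ := hcne
      intro h0
      exact hi (congrFun h0 i)
    have hker : ∀ j, ∑ i, c i * (g i j : ℝ) = 0 := by
      intro j
      have h1 : B (∑ i, c i • w i) (w j) = 0 := by rw [hc]; simp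
      rw [map_sum, LinearMap.sum_apply] at h1
      simpa [hg] using h1
    obtain ⟨a, hane, hag⟩ := exists_int_kernel g c hc0 hker
    -- the integral vector
    set a' : Fin r → ℤ := fun i => a i.succ with ha'
    set u : NumR.N1R k X := ∑ i, (a' i : ℝ) • w i.succ with hu
    set wi : NumR.N1R k X := ∑ i, (a i : ℝ) • w i with hwi
    have hwi_eq : wi = (a 0 : ℝ) • h + u := by
      rw [hwi, Fin.sum_univ_succ, hw0]
    have hwi_orth : ∀ j, B wi (w j) = 0 := by
      intro j
      rw [hwi, map_sum, LinearMap.sum_apply]
      have h1 : ∀ i, B ((a i : ℝ) • w i) (w j) = ((a i * g i j : ℤ) : ℝ) := by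
        intro i
        rw [map_smul, LinearMap.smul_apply, smul_eq_mul, hg]
        push_cast
        ring
      simp_rw [h1]
      rw [← Int.cast_sum, hag j, Int.cast_zero]
    have hwi_h : B wi h = 0 := hwi_orth 0
    have hwi_u : B wi u = 0 := by
      rw [hu, map_sum]
      apply Finset.sum_eq_zero
      intro i _
      rw [map_smul, hwi_orth, smul_zero]
    have hl : ∀ z, B u z = ∑ i, (a' i : ℝ) * B (w i.succ) z := by
      intro z
      rw [hu, map_sum, LinearMap.sum_apply]
      apply Finset.sum_congr rfl
      intro i _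
      rw [map_smul, LinearMap.smul_apply, smul_eq_mul]
    have hr : ∀ z, B z u = ∑ j, (a' j : ℝ) * B z (w j.succ) := by
      intro z
      rw [hu, map_sum]
      apply Finset.sum_congr rfl
      intro i _
      rw [map_smul, smul_eq_mul]
    have huu : B u u = ((∑ i, ∑ j, a' i * a' j *
        FGA.intNum k X 2 ![M i, M j] (Coh.structureModule X) : ℤ) : ℝ) := by
      rw [hl u]
      push_cast
      apply Finset.sum_congr rfl
      intro i _
      rw [hr, Finset.mul_sum]
      apply Finset.sum_congr rfl
      intro j _
      rw [hwS, hwS, hB]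
      ring
    have hsym : B h u = B u h := isIntForm_symm B hB _ _
    have huu2 : B u u = (a 0 : ℝ) ^ 2 * B h h := by
      have h1 : u = wi - (a 0 : ℝ) • h := by rw [hwi_eq]; abel
      have h2 : B u u = B wi u - (a 0 : ℝ) * B h u := by
        have : B u u = B (wi - (a 0 : ℝ) • h) u := congrArg (fun z => B z u) h1
        rw [this, map_sub, LinearMap.sub_apply, map_smul, LinearMap.smul_apply, smul_eq_mul]
      have h3 : B u h = B wi h - (a 0 : ℝ) * B h h := by
        have : B u h = B (wi - (a 0 : ℝ) • h) h := congrArg (fun z => B z h) h1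
        rw [this, map_sub, LinearMap.sub_apply, map_smul, LinearMap.smul_apply, smul_eq_mul]
      rw [h2, hwi_u, hsym, h3, hwi_h]
      ring
    have hnn : (0 : ℝ) ≤ B u u := by rw [huu2]; positivity
    have ha'0 : a' = 0 := by
      by_contra hne
      have := hneg a' hne
      have h1 : B u u < 0 := by rw [huu]; exact_mod_cast this
      linarith
    have hu0 : u = 0 := by
      rw [hu]
      apply Finset.sum_eq_zero
      intro i _
      rw [show a' i = 0 from congrFun ha'0 i, Int.cast_zero, zero_smul]
    have ha00 : a 0 = 0 := by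
      rw [hu0, map_zero] at huu2
      have h1 : (a 0 : ℝ) ^ 2 = 0 := by
        rcases mul_eq_zero.mp huu2.symm with h | h
        · exact h
        · exact absurd h ha.ne'
      have h2 : (a 0 : ℝ) = 0 := pow_eq_zero_iff (two_ne_zero) |>.mp h1
      exact_mod_cast h2
    apply hane
    funext i
    refine Fin.cases ha00 (fun j => ?_) i
    exact congrFun ha'0 j
  have := hli.fintype_card_le_finrank
  simpa using this

end Groth.Agent.H5.NumRS
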