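import Mathlib

/-!
# Real vectors killed by integral linear forms are real combinations of integral such vectors
-/

set_option autoImplicit false
open Finset

namespace Groth.Agent.H5.NumRS

/-- a finite family of rationals has a common denominator. -/
theorem exists_common_den_finset {J : Type*} (T : Finset J) (f : J → ℚ) :
    ∃ d : ℕ, 0 < d ∧ ∀ j ∈ T, ∃ z : ℤ, f j * d = z := by
  classical
  induction T using Finset.induction_on with
  | empty => exact ⟨1, one_pos, fun j hj => absurd hj (Finset.notMem_empty j)⟩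
  | insert j₀ T hj₀ ih =>
    obtain ⟨d, hd, hdT⟩ := ih
    refine ⟨d * (f j₀).den, Nat.mul_pos hd (f j₀).den_pos, ?_⟩
    intro j hj
    rcases Finset.mem_insert.mp hj with rfl | hjT
    · refine ⟨(f j).num * d, ?_⟩
      have h1 : f j * ((f j).den : ℚ) = (f j).num := Rat.mul_den_eq_num (f j)
      push_cast
      rw [mul_comm (d : ℚ), ← mul_assoc, h1]
    · obtain ⟨z, hz⟩ := hdT j hjT
      refine ⟨z * (f j₀).den, ?_⟩
      push_cast
      rw [← mul_assoc, hz]

/-- the value of a linear form on a finitely supported function. -/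
theorem linearForm_apply {ι : Type*} (φ : (ι →₀ ℝ) →ₗ[ℝ] ℝ) (u : ι →₀ ℝ) (S : Finset ι)
    (hS : u.support ⊆ S) : φ u = ∑ i ∈ S, u i * φ (Finsupp.single i 1) := by
  classical
  have h1 : u = ∑ i ∈ S, u i • Finsupp.single i (1 : ℝ) := by
    ext j
    rw [Finsupp.finsetSum_apply]
    simp only [Finsupp.smul_apply, smul_eq_mul, Finsupp.single_apply, mul_ite, mul_one, mul_zero]
    rw [Finset.sum_ite_eq' S j]
    split_ifs with hj
    · rfl
    · have : j ∉ u.support := fun h => hj (hS h)
      exact Finsupp.notMem_support_iff.mp this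
  conv_lhs => rw [h1]
  rw [map_sum]
  apply Finset.sum_congr rfl
  intro i _
  rw [map_smul, smul_eq_mul]

/-- **rationality of the kernel of integral linear forms.** -/
theorem exists_int_decomp {ι : Type*} (Φ : Set ((ι →₀ ℝ) →ₗ[ℝ] ℝ))
    (hΦ : ∀ φ ∈ Φ, ∀ i, ∃ z : ℤ, φ (Finsupp.single i 1) = z) (v : ι →₀ ℝ)
    (hv : ∀ φ ∈ Φ, φ v = 0) :
    ∃ (m : ℕ) (ρ : Fin m → ℝ) (w : Fin m → (ι →₀ ℤ)),
      (∀ l, ∀ φ ∈ Φ, φ (Finsupp.mapRange.addMonoidHom (Int.castAddHom ℝ) (w l)) = 0) ∧
      v = ∑ l, ρ l • Finsupp.mapRange.addMonoidHom (Int.castAddHom ℝ) (w l) := by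
  classical
  set S := v.support with hS
  set W : Submodule ℚ ℝ := Submodule.span ℚ ((fun i => v i) '' (S : Set ι)) with hW
  haveI : Module.Finite ℚ W := Module.Finite.span_of_finite ℚ (S.finite_toSet.image _)
  let β := Module.finBasis ℚ W
  set m := Module.finrank ℚ W with hm
  have hmem : ∀ i, v i ∈ W := by
    intro i
    by_cases hi : i ∈ S
    · exact Submodule.subset_span ⟨i, hi, rfl⟩
    · rw [Finsupp.notMem_support_iff.mp hi]
      exact W.zero_mem
  set q : ι → Fin m → ℚ := fun i l => β.repr ⟨v i, hmem i⟩ l with hq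
  have hq0 : ∀ i, i ∉ S → ∀ l, q i l = 0 := by
    intro i hi l
    have h0 : (⟨v i, hmem i⟩ : W) = 0 := Subtype.ext (Finsupp.notMem_support_iff.mp hi)
    simp only [hq, h0, map_zero, Finsupp.zero_apply]
  have hvi : ∀ i, v i = ∑ l, (q i l : ℝ) * (β l : ℝ) := by
    intro i
    have h1 := congrArg Subtype.val (β.sum_repr ⟨v i, hmem i⟩)
    rw [Submodule.coe_sum] at h1
    have h2 : v i = ∑ l, ((β.repr ⟨v i, hmem i⟩ l • β l : W) : ℝ) := h1.symm
    rw [h2]
    apply Finset.sum_congr rfl
    intro l _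
    rw [Submodule.coe_smul, Rat.smul_def]
  -- common denominator
  obtain ⟨d, hd, hdz⟩ := exists_common_den_finset (S ×ˢ (univ : Finset (Fin m)))
    (fun p : ι × Fin m => q p.1 p.2)
  have hdz' : ∀ i l, ∃ z : ℤ, q i l * d = z := by
    intro i l
    by_cases hi : i ∈ S
    · exact hdz (i, l) (Finset.mem_product.mpr ⟨hi, mem_univ l⟩)
    · exact ⟨0, by rw [hq0 i hi l]; simp⟩
  choose z hz using hdz'
  have hdR : (0 : ℝ) < d := by exact_mod_cast hd
  have hzR : ∀ i l, (z i l : ℝ) = (q i l : ℝ) * d := by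
    intro i l
    have := hz i l
    have h2 : ((q i l * d : ℚ) : ℝ) = ((z i l : ℚ) : ℝ) := by rw [this]
    push_cast at h2
    exact h2.symm
  have hz0 : ∀ i, i ∉ S → ∀ l, z i l = 0 := by
    intro i hi l
    have h1 := hzR i l
    rw [hq0 i hi l] at h1
    simp only [Rat.cast_zero, zero_mul] at h1
    exact_mod_cast h1
  let w : Fin m → (ι →₀ ℤ) := fun l =>
    Finsupp.onFinset S (fun i => z i l) (fun i hi => by
      by_contra hnot
      exact hi (hz0 i hnot l))
  have hw_apply : ∀ l i, (Finsupp.mapRange.addMonoidHom (Int.castAddHom ℝ) (w l)) i =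
      (z i l : ℝ) := by
    intro l i
    simp [w]
  have hw_supp : ∀ l, (Finsupp.mapRange.addMonoidHom (Int.castAddHom ℝ) (w l)).support ⊆ S := by
    intro l i hi
    by_contra hnot
    rw [Finsupp.mem_support_iff, hw_apply, hz0 i hnot l] at hi
    exact hi (by simp)
  refine ⟨m, fun l => (β l : ℝ) / d, w, ?_, ?_⟩
  · intro l φ hφ
    choose zφ hzφ using hΦ φ hφ
    -- the rational numbers `s_l`
    have h1 := hv φ hφ
    rw [linearForm_apply φ v S (le_refl _)] at h1
    have h2 : ∑ i ∈ S, v i * φ (Finsupp.single i 1) =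
        ∑ l, ((∑ i ∈ S, q i l * (zφ i : ℚ) : ℚ) : ℝ) * (β l : ℝ) := by
      push_cast
      simp_rw [Finset.sum_mul]
      rw [Finset.sum_comm]
      apply Finset.sum_congr rfl
      intro i _
      rw [hvi i, hzφ i, Finset.sum_mul]
      apply Finset.sum_congr rfl
      intro l _
      ring
    rw [h2] at h1
    have h3 : ∑ l, (∑ i ∈ S, q i l * (zφ i : ℚ) : ℚ) • β l = 0 := by
      apply Subtype.ext
      rw [Submodule.coe_sum, Submodule.coe_zero, ← h1]
      apply Finset.sum_congr rfl
      intro l _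
      rw [Submodule.coe_smul, Rat.smul_def]
    have h4 := (Fintype.linearIndependent_iff.mp β.linearIndependent) _ h3 l
    rw [linearForm_apply φ _ S (hw_supp l)]
    have h5 : ∑ i ∈ S, (Finsupp.mapRange.addMonoidHom (Int.castAddHom ℝ) (w l)) i *
        φ (Finsupp.single i 1) = (d : ℝ) * ((∑ i ∈ S, q i l * (zφ i : ℚ) : ℚ) : ℝ) := by
      push_cast
      rw [Finset.mul_sum]
      apply Finset.sum_congr rfl
      intro i _
      rw [hw_apply, hzR, hzφ i]
      ring
    rw [h5, h4]
    simp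
  · ext i
    rw [Finsupp.finsetSum_apply, hvi i]
    apply Finset.sum_congr rfl
    intro l _
    rw [Finsupp.smul_apply, hw_apply, hzR, smul_eq_mul]
    field_simp

end Groth.Agent.H5.NumRS
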