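import Mathlib
import Groth.Prelude.Def_NumR
import Groth.Agent.Lib.Helper5.NumRS.RatDec
import Groth.Agent.Lib.Helper5.NumRS.NM

/-!
# Ample real divisors on a surface: ampleness is a numerical property (S19733)
-/

set_option autoImplicit false
set_option linter.style.haveILetI false
universe u
open CategoryTheory CategoryTheory.Limits AlgebraicGeometry TopologicalSpace Opposite

namespace Groth.Agent.H5.NumRS

variable (k : Type u) [Field k] (X : Scheme.{u}) [X.Over (Spec (CommRingCat.of k))]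
  [IsProper (X ↘ Spec (CommRingCat.of k))] [Smooth (X ↘ Spec (CommRingCat.of k))]
  [IsIntegral X] [PicGrp.Law X]

/-- the class of an integral divisor whose Picard class is that of `L`. -/
theorem clR_eq_divClR {E : NumR.CDiv X} {L : X.Modules} (hL : PicF.IsInvertible L)
    (h : Additive.ofMul (PicGrp.cls L hL) = NumR.divCl X E) :
    NumR.clR k X L hL = NumR.divClR k X (NumR.CDiv.toR X E) := by
  rw [NumR.divClR_toR, ← h]
  rfl

/-- the class of a prime divisor. -/
theorem divClR_single (C : NumR.Curve X) :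
    NumR.divClR k X (NumR.CDiv.toR X (Finsupp.single C 1)) = NumR.curveCl k X C.1 C.2.2.2 := by
  have h1 : NumR.CDiv.toR X (Finsupp.single C 1) = Finsupp.single C (1 : ℝ) := by
    simp [NumR.CDiv.toR]
  rw [h1, NumR.divClR, Finsupp.linearCombination_single, one_smul]

/-- adding a numerically trivial integral divisor to an integral divisor with ample class gives an
integral divisor with ample class. -/
theorem ampleClass_add (hdim : topologicalKrullDim X = 2)
    (hreg : ∀ x : X, IsRegularLocalRing (X.presheaf.stalk x))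
    (B : NumR.N1R k X →ₗ[ℝ] NumR.N1R k X →ₗ[ℝ] ℝ) (hB : NumR.IsIntForm₂ k X B)
    (E N : NumR.CDiv X)
    (hE : ∃ (L : X.Modules) (hL : PicF.IsInvertible L), CohB1.IsAmple L ∧
      Additive.ofMul (PicGrp.cls L hL) = NumR.divCl X E)
    (hN : ∀ E' : NumR.CDiv X, B (NumR.divClR k X (NumR.CDiv.toR X N))
      (NumR.divClR k X (NumR.CDiv.toR X E')) = 0) (s : ℤ) :
    ∃ (L' : X.Modules) (hL' : PicF.IsInvertible L'), CohB1.IsAmple L' ∧
      Additive.ofMul (PicGrp.cls L' hL') = NumR.divCl X (E + s • N) := by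
  obtain ⟨L, hL, hLamp, hLE⟩ := hE
  obtain ⟨L', hL', hc⟩ := PicGrp.exists_eq_cls (Additive.toMul (NumR.divCl X (E + s • N)))
  have hL'E : Additive.ofMul (PicGrp.cls L' hL') = NumR.divCl X (E + s • N) := by
    rw [← hc]; rfl
  refine ⟨L', hL', ?_, hL'E⟩
  set ν := NumR.divClR k X (NumR.CDiv.toR X N) with hν
  have h1 : NumR.clR k X L hL = NumR.divClR k X (NumR.CDiv.toR X E) := clR_eq_divClR k X hL hLE
  have h2 : NumR.clR k X L' hL' = NumR.clR k X L hL + (s : ℝ) • ν := by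
    rw [clR_eq_divClR k X hL' hL'E, h1, map_add, map_add, map_zsmul, map_zsmul,
      Int.cast_smul_eq_zsmul]
  have hνL : B ν (NumR.clR k X L hL) = 0 := by rw [h1]; exact hN E
  have hLν : B (NumR.clR k X L hL) ν = 0 := by rw [isIntForm_symm B hB]; exact hνL
  have hνν : B ν ν = 0 := hN N
  have hLL : 0 < B (NumR.clR k X L hL) (NumR.clR k X L hL) := ample_sq_pos k X hdim B hB L hLamp
  apply isAmple_of_pos k X hdim hreg B hB L' hL'
  · rw [h2]
    simp only [map_add, map_smul, LinearMap.add_apply, LinearMap.smul_apply, smul_eq_mul, hνL, hLν,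
      hνν]
    linarith
  · intro I hI hId hIinv
    have hνC : B ν (NumR.curveCl k X I hIinv) = 0 := by
      have := hN (Finsupp.single (⟨I, hI, hId, hIinv⟩ : NumR.Curve X) 1)
      rwa [divClR_single] at this
    rw [h2, map_add, LinearMap.add_apply, map_smul, LinearMap.smul_apply, hνC, smul_zero, add_zero]
    exact B_ample_curveCl_pos k X hdim B hB I hIinv hId _ (clR_mem_ampleCone hLamp)

variable {X}

/-- a positive multiple of an integral divisor with ample class is an ample real divisor. -/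
theorem isAmpleRDiv_smul_toR (E : NumR.CDiv X)
    (hE : ∃ (L : X.Modules) (hL : PicF.IsInvertible L), CohB1.IsAmple L ∧
      Additive.ofMul (PicGrp.cls L hL) = NumR.divCl X E) (t : ℝ) (ht : 0 < t) :
    NumR.IsAmpleRDiv X (t • NumR.CDiv.toR X E) :=
  ⟨1, fun _ => E, fun _ => t, one_pos, fun _ => ht, fun _ => hE, by simp⟩

/-- the sum of two ample real divisors is ample. -/
theorem isAmpleRDiv_add {D₁ D₂ : NumR.CDivR X} (h₁ : NumR.IsAmpleRDiv X D₁)
    (h₂ : NumR.IsAmpleRDiv X D₂) : NumR.IsAmpleRDiv X (D₁ + D₂) := by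
  obtain ⟨n₁, E₁, t₁, hn₁, ht₁, hE₁, rfl⟩ := h₁
  obtain ⟨n₂, E₂, t₂, hn₂, ht₂, hE₂, rfl⟩ := h₂
  refine ⟨n₁ + n₂, Fin.append E₁ E₂, Fin.append t₁ t₂, by omega, ?_, ?_, ?_⟩
  · intro i
    refine Fin.addCases (fun j => ?_) (fun j => ?_) i
    · rw [Fin.append_left]; exact ht₁ j
    · rw [Fin.append_right]; exact ht₂ j
  · intro i
    refine Fin.addCases (fun j => ?_) (fun j => ?_) i
    · rw [Fin.append_left]; exact hE₁ j
    · rw [Fin.append_right]; exact hE₂ j
  · rw [Fin.sum_univ_add]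
    simp only [Fin.append_left, Fin.append_right]

/-- a nonempty finite sum of ample real divisors is ample. -/
theorem isAmpleRDiv_sum : ∀ (m : ℕ) (f : Fin (m + 1) → NumR.CDivR X),
    (∀ l, NumR.IsAmpleRDiv X (f l)) → NumR.IsAmpleRDiv X (∑ l, f l)
  | 0, f, hf => by
    rw [Fin.sum_univ_one]
    exact hf 0
  | m + 1, f, hf => by
    rw [Fin.sum_univ_succ]
    exact isAmpleRDiv_add (hf 0) (isAmpleRDiv_sum m (fun l => f l.succ) (fun l => hf l.succ))

variable (X)

/-- an ample integral divisor plus a real multiple of a numerically trivial integral divisor. -/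
theorem isAmpleRDiv_add_numTrivial (hdim : topologicalKrullDim X = 2)
    (hreg : ∀ x : X, IsRegularLocalRing (X.presheaf.stalk x))
    (B : NumR.N1R k X →ₗ[ℝ] NumR.N1R k X →ₗ[ℝ] ℝ) (hB : NumR.IsIntForm₂ k X B)
    (E N : NumR.CDiv X)
    (hE : ∃ (L : X.Modules) (hL : PicF.IsInvertible L), CohB1.IsAmple L ∧
      Additive.ofMul (PicGrp.cls L hL) = NumR.divCl X E)
    (hN : ∀ E' : NumR.CDiv X, B (NumR.divClR k X (NumR.CDiv.toR X N))
      (NumR.divClR k X (NumR.CDiv.toR X E')) = 0) (τ ρ : ℝ) (hτ : 0 < τ) :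
    NumR.IsAmpleRDiv X (τ • NumR.CDiv.toR X E + ρ • NumR.CDiv.toR X N) := by
  obtain ⟨K, hK⟩ := exists_nat_gt (|ρ| / τ)
  have hKpos : (0 : ℝ) < K := lt_of_le_of_lt (div_nonneg (abs_nonneg ρ) hτ.le) hK
  have hρK : |ρ| < K * τ := by
    rw [div_lt_iff₀ hτ] at hK
    exact hK
  have hρK' : |ρ / K| < τ := by
    rw [abs_div, abs_of_pos hKpos, div_lt_iff₀ hKpos]
    linarith
  obtain ⟨hlo, hhi⟩ := abs_lt.mp hρK'
  have hα : 0 < (τ + ρ / K) / 2 := by linarith
  have hα' : 0 < (τ - ρ / K) / 2 := by linarith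
  have h1 := isAmpleRDiv_smul_toR (E + ((K : ℕ) : ℤ) • N)
    (ampleClass_add k X hdim hreg B hB E N hE hN _) _ hα
  have h2 := isAmpleRDiv_smul_toR (E + (-((K : ℕ) : ℤ)) • N)
    (ampleClass_add k X hdim hreg B hB E N hE hN _) _ hα'
  have h3 := isAmpleRDiv_add h1 h2
  have heq : τ • NumR.CDiv.toR X E + ρ • NumR.CDiv.toR X N =
      ((τ + ρ / K) / 2) • NumR.CDiv.toR X (E + ((K : ℕ) : ℤ) • N) +
        ((τ - ρ / K) / 2) • NumR.CDiv.toR X (E + (-((K : ℕ) : ℤ)) • N) := by
    rw [map_add, map_add, map_zsmul, map_zsmul, ← Int.cast_smul_eq_zsmul ℝ,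
      ← Int.cast_smul_eq_zsmul ℝ]
    push_cast
    have hK0 : (K : ℝ) ≠ 0 := hKpos.ne'
    ext C
    simp only [Finsupp.add_apply, Finsupp.smul_apply, smul_eq_mul]
    field_simp
    ring
  rw [heq]
  exact h3

/-- **S19733.** -/
theorem isAmpleRDiv_of_numTrivial (hdim : topologicalKrullDim X = 2)
    (hreg : ∀ x : X, IsRegularLocalRing (X.presheaf.stalk x))
    (B : NumR.N1R k X →ₗ[ℝ] NumR.N1R k X →ₗ[ℝ] ℝ) (hB : NumR.IsIntForm₂ k X B)
    (D D' : NumR.CDivR X) (hD : NumR.IsAmpleRDiv X D)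
    (h : NumR.IsNumTrivialRDiv k X B (D' - D)) : NumR.IsAmpleRDiv X D' := by
  classical
  obtain ⟨n, E, t, hn, ht, hE, hDeq⟩ := hD
  -- the integral linear forms
  let Φ : Set ((NumR.Curve X →₀ ℝ) →ₗ[ℝ] ℝ) :=
    {φ | ∃ E' : NumR.CDiv X, φ = (B.flip (NumR.divClR k X (NumR.CDiv.toR X E'))).comp
      (NumR.divClR k X)}
  have hΦ : ∀ φ ∈ Φ, ∀ C, ∃ z : ℤ, φ (Finsupp.single C 1) = z := by
    rintro _ ⟨E', rfl⟩ C
    obtain ⟨M, hM, hc⟩ := PicGrp.exists_eq_cls (Additive.toMul (NumR.divCl X E'))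
    have hME : Additive.ofMul (PicGrp.cls M hM) = NumR.divCl X E' := by rw [← hc]; rfl
    refine ⟨- FGA.intNum k X 2 ![ClSub.idealMod C.1, M] (Coh.structureModule X), ?_⟩
    rw [LinearMap.comp_apply, LinearMap.flip_apply, ← clR_eq_divClR k X hM hME, NumR.divClR,
      Finsupp.linearCombination_single, one_smul]
    unfold NumR.curveCl
    rw [map_neg, LinearMap.neg_apply, hB]
    push_cast
    rfl
  have hv : ∀ φ ∈ Φ, φ (D' - D) = 0 := by
    rintro _ ⟨E', rfl⟩
    exact h E'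
  obtain ⟨m, ρ, w, hw, hdec⟩ := exists_int_decomp Φ hΦ (D' - D) hv
  have hwN : ∀ l, ∀ E' : NumR.CDiv X, B (NumR.divClR k X (NumR.CDiv.toR X (w l)))
      (NumR.divClR k X (NumR.CDiv.toR X E')) = 0 := fun l E' => hw l _ ⟨E', rfl⟩
  have hD' : D' = D + ∑ l, ρ l • NumR.CDiv.toR X (w l) := by
    have : D' = D + (D' - D) := by abel
    rw [this, hdec]
    rfl
  rcases Nat.eq_zero_or_pos m with hm0 | hmpos
  · subst hm0
    rw [hD', Fin.sum_univ_zero, add_zero]
    exact ⟨n, E, t, hn, ht, hE, hDeq⟩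
  · obtain ⟨n', rfl⟩ : ∃ n', n = n' + 1 := ⟨n - 1, by omega⟩
    obtain ⟨m', rfl⟩ : ∃ m', m = m' + 1 := ⟨m - 1, by omega⟩
    have hmR : (0 : ℝ) < ((m' + 1 : ℕ) : ℝ) := by positivity
    have hnR : (0 : ℝ) < ((n' + 1 : ℕ) : ℝ) := by positivity
    have hsum : D' = ∑ i : Fin (n' + 1), ∑ l : Fin (m' + 1),
        ((t i / ((m' + 1 : ℕ) : ℝ)) • NumR.CDiv.toR X (E i) +
          (ρ l / ((n' + 1 : ℕ) : ℝ)) • NumR.CDiv.toR X (w l)) := by
      rw [hD', hDeq]
      simp only [Finset.sum_add_distrib, Finset.sum_const, Finset.card_univ, Fintype.card_fin]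
      congr 1
      · apply Finset.sum_congr rfl
        intro i _
        rw [← Nat.cast_smul_eq_nsmul ℝ, smul_smul, mul_div_cancel₀ _ hmR.ne']
      · rw [← Nat.cast_smul_eq_nsmul ℝ, Finset.smul_sum]
        apply Finset.sum_congr rfl
        intro l _
        rw [smul_smul, mul_div_cancel₀ _ hnR.ne']
    rw [hsum]
    apply isAmpleRDiv_sum
    intro i
    apply isAmpleRDiv_sum
    intro l
    exact isAmpleRDiv_add_numTrivial k X hdim hreg B hB (E i) (w l) (hE i) (hwN l) _ _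
      (div_pos (ht i) hmR)

end Groth.Agent.H5.NumRS
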