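import Mathlib
import Groth.Prelude.Def_NumR
import Groth.Agent.Lib.Helper5.NumRS.CC
import Groth.Agent.Lib.Helper5.NumRS.Clo

/-!
# The Nakai–Moishezon criterion for real classes on a surface
-/

set_option autoImplicit false
set_option linter.style.haveILetI false
universe u
open CategoryTheory CategoryTheory.Limits AlgebraicGeometry TopologicalSpace Opposite

namespace Groth.Agent.H5.NumRS

open Groth.Agent.LD Groth.Agent.LD.QC Groth.Agent.H5.IntN Groth.Agent.H5.Curve3
  Groth.Agent.H5.Curve6 Groth.Agent.H5.Snap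

variable (k : Type u) [Field k] (X : Scheme.{u}) [X.Over (Spec (CommRingCat.of k))]
  [IsProper (X ↘ Spec (CommRingCat.of k))] [Smooth (X ↘ Spec (CommRingCat.of k))]
  [IsIntegral X] [PicGrp.Law X]

/-- **the positive cone consists of big classes.** -/
theorem posCone_subset_bigCone [Module.Finite ℝ (NumR.N1R k X)]
    (hdim : topologicalKrullDim X = 2)
    (B : NumR.N1R k X →ₗ[ℝ] NumR.N1R k X →ₗ[ℝ] ℝ) (hB : NumR.IsIntForm₂ k X B)
    (H : X.Modules) (hH : CohB1.IsAmple H) :
    NumR.posCone k X B H hH.1 ⊆ (bigCone k X : Set (NumR.N1R k X)) := by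
  haveI : IsNoetherian X := Groth.Agent.H5.Curve2.isNoetherian_of_proper k X
  haveI : IsTopologicalAddGroup (NumR.N1R k X) := IsModuleTopology.topologicalAddGroup ℝ _
  have hopen := (posCone_open_convex k X hdim B hB H hH).1
  set h := NumR.clR k X H hH.1 with hh
  have hhA : h ∈ NumR.ampleCone k X := clR_mem_ampleCone hH
  -- rational points
  have hrat : NumR.posCone k X B H hH.1 ∩ {y | IsRat k X y} ⊆
      (bigCone k X : Set (NumR.N1R k X)) := by
    rintro y ⟨hy, hyr⟩
    let f : ℝ → NumR.N1R k X := fun t => y - t • h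
    have hf : Continuous f := by fun_prop
    have hf0 : f 0 ∈ NumR.posCone k X B H hH.1 := by simpa [f] using hy
    have hnhds : f ⁻¹' (NumR.posCone k X B H hH.1) ∈ nhds (0 : ℝ) :=
      (hopen.preimage hf).mem_nhds hf0
    obtain ⟨ε, hε, hball⟩ := Metric.mem_nhds_iff.mp hnhds
    obtain ⟨q, hq0, hqε⟩ := exists_rat_btwn hε
    have hq0' : (0 : ℝ) < q := by exact_mod_cast hq0
    have hqmem : f q ∈ NumR.posCone k X B H hH.1 := by
      apply hball
      rw [Metric.mem_ball, Real.dist_eq, sub_zero, abs_of_pos hq0']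
      exact hqε
    have hqrat : IsRat k X (f q) := by
      have h1 : f q = y + ((-q : ℚ) : ℝ) • h := by
        simp only [f, Rat.cast_neg, neg_smul]
        abel
      rw [h1]
      exact isRat_add _ _ hyr (isRat_smul _ _ (isRat_toN1R _))
    have hqeff := isRat_posCone_mem_effCone k X hdim B hB H hH _ hqmem hqrat
    rw [SetLike.mem_coe, mem_bigCone_iff k X H hH]
    exact ⟨(q : ℝ) • h, (NumR.ampleCone k X).smul_mem hq0' hhA, hqeff⟩
  intro y hy
  have hbo : IsOpen (bigCone k X : Set (NumR.N1R k X)) := isOpen_bigCone k X H hH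
  have hconv : Convex ℝ (bigCone k X : Set (NumR.N1R k X)) := (bigCone k X).convex
  have hne : (bigCone k X : Set (NumR.N1R k X)).Nonempty :=
    ⟨h, ampleCone_le_bigCone k X hhA⟩
  have hint : interior (closure (bigCone k X : Set (NumR.N1R k X))) =
      (bigCone k X : Set (NumR.N1R k X)) := by
    rw [hconv.interior_closure_eq_interior_of_nonempty_interior
      (by rw [hbo.interior_eq]; exact hne), hbo.interior_eq]
  have hsub : NumR.posCone k X B H hH.1 ⊆ closure (bigCone k X : Set (NumR.N1R k X)) :=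
    fun z hz => closure_mono hrat ((dense_isRat k X).open_subset_closure_inter hopen hz)
  have := interior_maximal hsub hopen hy
  rwa [hint] at this

/-- distinct curves pair nonnegatively. -/
theorem B_cC_nonneg (hdim : topologicalKrullDim X = 2)
    (hreg : ∀ x : X, IsRegularLocalRing (X.presheaf.stalk x))
    (B : NumR.N1R k X →ₗ[ℝ] NumR.N1R k X →ₗ[ℝ] ℝ) (hB : NumR.IsIntForm₂ k X B) (ξ η : X)
    (hξ : topologicalKrullDim ↥(closure ({ξ} : Set X)) = 1)
    (hη : topologicalKrullDim ↥(closure ({η} : Set X)) = 1) (hne : ξ ≠ η) :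
    0 ≤ B (cC k X hdim hreg ξ) (cC k X hdim hreg η) := by
  rw [cC_eq k X hdim hreg ξ hξ, cC_eq k X hdim hreg η hη]
  unfold NumR.curveCl
  rw [map_neg, map_neg, LinearMap.neg_apply, neg_neg, hB]
  have hvne : vI ξ ≠ vI η := by
    intro heq
    apply hne
    have h1 : ((vI ξ).support : Set X) = ((vI η).support : Set X) := by rw [heq]
    rw [coe_support_vI, coe_support_vI] at h1
    exact (inseparable_iff_closure_eq.mpr h1).eq
  have := intNum_curves_nonneg k X hdim (vI ξ) (vI η) (isIntegral_vI ξ) (isIntegral_vI η)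
    (by rw [coe_support_vI]; exact hξ) (by rw [coe_support_vI]; exact hη)
    (isInvertible_vI k X hdim hreg ξ hξ) (isInvertible_vI k X hdim hreg η hη) hvne
  exact_mod_cast this

/-- classes whose pairing is a nonnegative combination of pairings with curves. -/
def IsCurveComb (hdim : topologicalKrullDim X = 2)
    (hreg : ∀ x : X, IsRegularLocalRing (X.presheaf.stalk x))
    (B : NumR.N1R k X →ₗ[ℝ] NumR.N1R k X →ₗ[ℝ] ℝ) (y : NumR.N1R k X) : Prop :=
  ∃ a : X →₀ ℝ, (∀ ξ, 0 ≤ a ξ) ∧
    (∀ ξ ∈ a.support, topologicalKrullDim ↥(closure ({ξ} : Set X)) = 1) ∧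
    ∀ z, B z y = a.sum (fun ξ c => c * B z (cC k X hdim hreg ξ))

/-- effective classes are nonnegative combinations of curves (as linear forms). -/
theorem effCone_isCurveComb (hdim : topologicalKrullDim X = 2)
    (hreg : ∀ x : X, IsRegularLocalRing (X.presheaf.stalk x))
    (B : NumR.N1R k X →ₗ[ℝ] NumR.N1R k X →ₗ[ℝ] ℝ) (hB : NumR.IsIntForm₂ k X B)
    (y : NumR.N1R k X) (hy : y ∈ NumR.effCone k X) : IsCurveComb k X hdim hreg B y := by
  classical
  let T : ConvexCone ℝ (NumR.N1R k X) :=
    { carrier := {y | IsCurveComb k X hdim hreg B y}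
      smul_mem' := by
        rintro c hc y ⟨a, ha0, hadim, hsum⟩
        refine ⟨c • a, fun ξ => ?_, fun ξ hξ => hadim ξ (Finsupp.support_smul hξ), fun z => ?_⟩
        · rw [Finsupp.smul_apply, smul_eq_mul]
          exact mul_nonneg hc.le (ha0 ξ)
        · rw [map_smul, smul_eq_mul, hsum z, Finsupp.sum_smul_index (fun i => by simp),
            Finsupp.mul_sum]
          apply Finsupp.sum_congr
          intro ξ _
          ring
      add_mem' := by
        rintro y ⟨a, ha0, hadim, hsum⟩ y' ⟨a', ha0', hadim', hsum'⟩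
        refine ⟨a + a', fun ξ => ?_, fun ξ hξ => ?_, fun z => ?_⟩
        · rw [Finsupp.add_apply]
          exact add_nonneg (ha0 ξ) (ha0' ξ)
        · rcases Finset.mem_union.mp (Finsupp.support_add hξ) with h | h
          · exact hadim ξ h
          · exact hadim' ξ h
        · rw [map_add, hsum z, hsum' z, Finsupp.sum_add_index' (fun i => by simp)
            (fun i b₁ b₂ => by ring)] }
  have h : NumR.effCone k X ≤ T := by
    apply ConvexCone.hull_min
    rintro _ ⟨E, hE, ⟨s, hs⟩, rfl⟩
    obtain ⟨D, hD, hD1, hcl⟩ := exists_cartier_of_section k X hdim E hE s hs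
    obtain ⟨S, n, hS, hdec⟩ := exists_decomp k X hdim hreg B hB D hD hD1
    refine ⟨Finsupp.onFinset S (fun ξ => if ξ ∈ S then (n ξ : ℝ) else 0)
      (fun ξ hξ => by by_contra hnot; simp [hnot] at hξ), fun ξ => ?_, fun ξ hξ => ?_, fun z => ?_⟩
    · rw [Finsupp.onFinset_apply]
      split_ifs
      · exact Nat.cast_nonneg _
      · exact le_refl _
    · have h1 : ξ ∈ S := by
        by_contra hnot
        rw [Finsupp.mem_support_iff, Finsupp.onFinset_apply, if_neg hnot] at hξ
        exact hξ rfl
      exact (hS ξ h1).2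
    · rw [hcl, hdec z, Finsupp.onFinset_sum _ (fun i => by simp)]
      apply Finset.sum_congr rfl
      intro ξ hξ
      rw [if_pos hξ]
  exact h hy

/-- choosing a uniform small multiple over a finite set. -/
theorem exists_small_le {ι : Type*} (S : Finset ι) (b c : ι → ℝ) (ε : ℝ) (hε : 0 < ε)
    (hb : ∀ i ∈ S, 0 < b i) (hc : ∀ i ∈ S, 0 < c i) :
    ∃ δ : ℝ, 0 < δ ∧ δ ≤ ε ∧ ∀ i ∈ S, δ * b i ≤ c i := by
  classical
  induction S using Finset.induction_on with
  | empty => exact ⟨ε, hε, le_refl _, fun i hi => absurd hi (Finset.notMem_empty i)⟩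
  | insert j S hj ih =>
    obtain ⟨δ, hδ, hδε, hδS⟩ := ih (fun i hi => hb i (Finset.mem_insert_of_mem hi))
      (fun i hi => hc i (Finset.mem_insert_of_mem hi))
    have hbj := hb j (Finset.mem_insert_self j S)
    have hcj := hc j (Finset.mem_insert_self j S)
    refine ⟨min δ (c j / b j), lt_min hδ (div_pos hcj hbj), (min_le_left _ _).trans hδε, ?_⟩
    intro i hi
    rcases Finset.mem_insert.mp hi with rfl | hi'
    · calc min δ (c i / b i) * b i ≤ (c i / b i) * b i :=
            mul_le_mul_of_nonneg_right (min_le_right _ _) hbj.le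
        _ = c i := div_mul_cancel₀ _ hbj.ne'
    · calc min δ (c j / b j) * b i ≤ δ * b i :=
            mul_le_mul_of_nonneg_right (min_le_left _ _) (hb i hi).le
        _ ≤ c i := hδS i hi'

/-- **S19732: the Nakai–Moishezon criterion for real classes on a smooth projective surface.** -/
theorem real_nakai [Module.Finite ℝ (NumR.N1R k X)]
    (hdim : topologicalKrullDim X = 2)
    (hreg : ∀ x : X, IsRegularLocalRing (X.presheaf.stalk x))
    (B : NumR.N1R k X →ₗ[ℝ] NumR.N1R k X →ₗ[ℝ] ℝ) (hB : NumR.IsIntForm₂ k X B)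
    (H : X.Modules) (hH : CohB1.IsAmple H) (x : NumR.N1R k X) :
    x ∈ (NumR.ampleCone k X : Set (NumR.N1R k X)) ↔
      (0 < B x x ∧ ∀ (I : X.IdealSheafData), AlgebraicGeometry.IsIntegral I.subscheme →
        topologicalKrullDim (I.support : Set X) = 1 → ∀ hI : PicF.IsInvertible (ClSub.idealMod I),
          0 < B x (NumR.curveCl k X I hI)) := by
  haveI : IsNoetherian X := Groth.Agent.H5.Curve2.isNoetherian_of_proper k X
  haveI : IsTopologicalAddGroup (NumR.N1R k X) := IsModuleTopology.topologicalAddGroup ℝ _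
  constructor
  · intro hx
    exact ⟨(ampleCone_subset_posCone k X hdim B hB H hH hx).1, fun I _ hId hI =>
      B_ample_curveCl_pos k X hdim B hB I hI hId x hx⟩
  rintro ⟨hxx, hcurves⟩
  set h := NumR.clR k X H hH.1 with hh
  have hhA : h ∈ NumR.ampleCone k X := clR_mem_ampleCone hH
  have hxnef : x ∈ NumR.nefCone₂ k X B := fun I hI hId hIinv => (hcurves I hI hId hIinv).le
  -- `x` lies in the positive cone
  have hxP : x ∈ NumR.posCone k X B H hH.1 := by
    have := (closure_ampleCone_main k X hdim hreg B hB H hH).2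
    have hmem : x ∈ {x | 0 < B x x ∧ x ∈ NumR.nefCone₂ k X B} := ⟨hxx, hxnef⟩
    rw [← this] at hmem
    exact hmem.2
  have hopen := (posCone_open_convex k X hdim B hB H hH).1
  -- move a little in the direction of `-h`
  obtain ⟨ε, hε, hyP⟩ : ∃ ε : ℝ, 0 < ε ∧ x - ε • h ∈ NumR.posCone k X B H hH.1 := by
    have hf : Continuous (fun t : ℝ => x - t • h) := by fun_prop
    have hf0 : (fun t : ℝ => x - t • h) 0 ∈ NumR.posCone k X B H hH.1 := by simpa using hxP
    have hnhds : (fun t : ℝ => x - t • h) ⁻¹' (NumR.posCone k X B H hH.1) ∈ nhds (0 : ℝ) :=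
      (hopen.preimage hf).mem_nhds hf0
    obtain ⟨ε, hε, hball⟩ := Metric.mem_nhds_iff.mp hnhds
    refine ⟨ε / 2, by positivity, ?_⟩
    change (ε / 2) ∈ (fun t : ℝ => x - t • h) ⁻¹' (NumR.posCone k X B H hH.1)
    apply hball
    rw [Metric.mem_ball, Real.dist_eq, sub_zero, abs_of_pos (by positivity)]
    linarith
  set y := x - ε • h with hy
  have hyE : y ∈ NumR.effCone k X :=
    bigCone_le_effCone k X H hH (posCone_subset_bigCone k X hdim B hB H hH hyP)
  obtain ⟨a, ha0, hadim, hasum⟩ := effCone_isCurveComb k X hdim hreg B hB y hyE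
  -- the finitely many curves of `y`
  have hb : ∀ ξ ∈ a.support, 0 < B h (cC k X hdim hreg ξ) := by
    intro ξ hξ
    rw [cC_eq k X hdim hreg ξ (hadim ξ hξ)]
    exact B_ample_curveCl_pos k X hdim B hB _ _ (by rw [coe_support_vI]; exact hadim ξ hξ) h hhA
  have hc : ∀ ξ ∈ a.support, 0 < B x (cC k X hdim hreg ξ) := by
    intro ξ hξ
    rw [cC_eq k X hdim hreg ξ (hadim ξ hξ)]
    exact hcurves _ (isIntegral_vI ξ) (by rw [coe_support_vI]; exact hadim ξ hξ) _
  obtain ⟨δ, hδ, hδε, hδS⟩ := exists_small_le a.support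
    (fun ξ => B h (cC k X hdim hreg ξ)) (fun ξ => B x (cC k X hdim hreg ξ)) ε hε hb hc
  -- `x - δ h` is nef
  have hnef : x - δ • h ∈ NumR.nefCone₂ k X B := by
    intro I hI hId hIinv
    haveI := hI
    set η := I.subschemeι (genericPoint I.subscheme) with hη
    have hηd : topologicalKrullDim ↥(closure ({η} : Set X)) = 1 := by
      rw [← support_eq_closure_of_isIntegral I]; exact hId
    rw [curveCl_eq_cC k X hdim hreg I hI hId hIinv, map_sub, LinearMap.sub_apply, map_smul,
      LinearMap.smul_apply, smul_eq_mul]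
    by_cases hηS : η ∈ a.support
    · have := hδS η hηS
      linarith
    · -- `y` pairs nonnegatively with this curve
      have hyη : 0 ≤ B y (cC k X hdim hreg η) := by
        rw [isIntForm_symm B hB, hasum]
        apply Finset.sum_nonneg
        intro ξ hξ
        apply mul_nonneg (ha0 ξ)
        have hne : η ≠ ξ := fun heq => hηS (heq ▸ hξ)
        exact B_cC_nonneg k X hdim hreg B hB η ξ hηd (hadim ξ hξ) hne
      have hxη : 0 ≤ B x (cC k X hdim hreg η) := by
        have := hxnef I hI hId hIinv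
        rwa [curveCl_eq_cC k X hdim hreg I hI hId hIinv] at this
      have hyexp : B y (cC k X hdim hreg η) =
          B x (cC k X hdim hreg η) - ε * B h (cC k X hdim hreg η) := by
        rw [hy, map_sub, LinearMap.sub_apply, map_smul, LinearMap.smul_apply, smul_eq_mul]
      -- `B h η ≤ B x η / ε`
      have h1 : ε * B h (cC k X hdim hreg η) ≤ B x (cC k X hdim hreg η) := by linarith
      by_cases hbη : 0 ≤ B h (cC k X hdim hreg η)
      · have : δ * B h (cC k X hdim hreg η) ≤ ε * B h (cC k X hdim hreg η) :=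
          mul_le_mul_of_nonneg_right hδε hbη
        linarith
      · push Not at hbη
        have : δ * B h (cC k X hdim hreg η) ≤ 0 := by nlinarith
        linarith
  have hfinal := nef_add_ample k X hdim hreg B hB H hH (x - δ • h) (δ • h) hnef
    ((NumR.ampleCone k X).smul_mem hδ hhA)
  rwa [sub_add_cancel] at hfinal

end Groth.Agent.H5.NumRS
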