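import Mathlib
import Groth.Prelude.Def_NumR
import Groth.Agent.Lib.Helper5.NumRS.LinNeg
import Groth.Agent.Lib.Helper5.NumRS.Light
import Groth.Agent.Lib.Helper5.NumRS.RNak

/-!
# Walls of the nef cone and negative definite configurations of curves (S19735)
-/

set_option autoImplicit false
set_option linter.style.haveILetI false
universe u
open CategoryTheory CategoryTheory.Limits AlgebraicGeometry TopologicalSpace Opposite

namespace Groth.Agent.H5.NumRS

variable (k : Type u) [Field k] (X : Scheme.{u}) [X.Over (Spec (CommRingCat.of k))]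
  [IsProper (X ↘ Spec (CommRingCat.of k))] [Smooth (X ↘ Spec (CommRingCat.of k))]
  [IsIntegral X] [PicGrp.Law X]

/-- **S19735.** -/
theorem walls_iff [Module.Finite ℝ (NumR.N1R k X)] (hdim : topologicalKrullDim X = 2)
    (hreg : ∀ x : X, IsRegularLocalRing (X.presheaf.stalk x))
    (B : NumR.N1R k X →ₗ[ℝ] NumR.N1R k X →ₗ[ℝ] ℝ) (hB : NumR.IsIntForm₂ k X B)
    (H : X.Modules) (hH : CohB1.IsAmple H)
    (r : ℕ) (C : Fin r → X.IdealSheafData) (hC : Function.Injective C)
    (hCi : ∀ i, AlgebraicGeometry.IsIntegral (C i).subscheme)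
    (hCd : ∀ i, topologicalKrullDim ((C i).support : Set X) = 1)
    (hCinv : ∀ i, PicF.IsInvertible (ClSub.idealMod (C i))) :
    (∃ x : NumR.N1R k X, x ∈ closure (NumR.ampleCone k X : Set (NumR.N1R k X)) ∧
        x ∈ NumR.posCone k X B H hH.1 ∧ ∀ i, x ∈ NumR.wall k X B (C i) (hCinv i)) ↔
      (∀ a : Fin r → ℤ, a ≠ 0 →
      ∑ i, ∑ j, a i * a j * FGA.intNum k X 2 ![(ClSub.idealMod (C i)), (ClSub.idealMod (C j))]
        (Coh.structureModule X) < 0) := by
  classical
  haveI : IsNoetherian X := Groth.Agent.H5.Curve2.isNoetherian_of_proper k X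
  set h := NumR.clR k X H hH.1 with hh
  have hhA : h ∈ NumR.ampleCone k X := clR_mem_ampleCone hH
  have ha : 0 < B h h := ample_sq_pos k X hdim B hB H hH
  have hsym := isIntForm_symm B hB
  set c : Fin r → NumR.N1R k X := fun i => NumR.curveCl k X (C i) (hCinv i) with hc
  set G : Matrix (Fin r) (Fin r) ℤ := fun i j =>
    FGA.intNum k X 2 ![(ClSub.idealMod (C i)), (ClSub.idealMod (C j))] (Coh.structureModule X)
    with hGdef
  have hG : ∀ i j, B (c i) (c j) = (G i j : ℝ) := by
    intro i j
    simp only [hc, NumR.curveCl]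
    rw [map_neg, map_neg, LinearMap.neg_apply, neg_neg, hB]
  have hoff : ∀ i j, i ≠ j → 0 ≤ G i j := fun i j hij =>
    intNum_curves_nonneg k X hdim (C i) (C j) (hCi i) (hCi j) (hCd i) (hCd j) (hCinv i) (hCinv j)
      (hC.ne hij)
  have hoffB : ∀ i j, i ≠ j → 0 ≤ B (c i) (c j) := by
    intro i j hij
    rw [hG]
    exact_mod_cast hoff i j hij
  have hhc : ∀ i, 0 < B h (c i) := fun i =>
    B_ample_curveCl_pos k X hdim B hB (C i) (hCinv i) (hCd i) h hhA
  have hch : ∀ i, 0 < B (c i) h := fun i => by rw [hsym]; exact hhc i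
  have hquad : ∀ a : Fin r → ℝ, B (∑ i, a i • c i) (∑ i, a i • c i) =
      ∑ i, ∑ j, a i * a j * (G i j : ℝ) := by
    intro a
    simp only [map_sum, map_smul, LinearMap.sum_apply, LinearMap.smul_apply, smul_eq_mul]
    rw [Finset.sum_comm]
    apply Finset.sum_congr rfl
    intro i _
    rw [Finset.mul_sum]
    apply Finset.sum_congr rfl
    intro j _
    rw [hG]
    ring
  constructor
  · rintro ⟨x, hxA, hxP, hxw⟩ a hane
    have hxw' : ∀ i, B x (c i) = 0 := fun i => hxw i
    have horth : ∀ a : Fin r → ℝ, B (∑ i, a i • c i) x = 0 := by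
      intro a
      rw [map_sum, LinearMap.sum_apply]
      apply Finset.sum_eq_zero
      intro i _
      rw [map_smul, LinearMap.smul_apply, hsym, hxw', smul_zero]
    have hnonpos : ∀ a : Fin r → ℝ, B (∑ i, a i • c i) (∑ i, a i • c i) ≤ 0 := fun a =>
      orth_sq_nonpos B hsym h ha (real_hodge k X hdim B hB H hH) x hxP.1 _ (horth a)
    have hzero : ∀ a : Fin r → ℝ, B (∑ i, a i • c i) (∑ i, a i • c i) = 0 →
        ∑ i, a i • c i = 0 := fun a h0 =>
      light_cone_surface k X hdim hreg B hB H hH x _ hxP h0.ge (by rw [hsym]; exact horth a)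
    by_contra hnot
    push Not at hnot
    have h1 : 0 ≤ B (∑ i, (a i : ℝ) • c i) (∑ i, (a i : ℝ) • c i) := by
      rw [hquad]
      exact_mod_cast hnot
    have h2 := hzero _ (le_antisymm (hnonpos _) h1)
    have h3 := coeff_zero_of_comb_zero B c h hoffB hnonpos hzero hch (fun i => (a i : ℝ)) h2
    apply hane
    funext i
    have h4 : ((a i : ℤ) : ℝ) = 0 := congrFun h3 i
    change a i = 0
    exact_mod_cast h4
  · intro hneg
    have hsemi := negSemidef_of_int G hneg
    set Gr : Matrix (Fin r) (Fin r) ℝ := (Int.castRingHom ℝ).mapMatrix G with hGr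
    have hGr_apply : ∀ i j, Gr i j = (G i j : ℝ) := fun i j => rfl
    have hdetG : G.det ≠ 0 := by
      intro h0
      obtain ⟨a, hane, hag⟩ := Matrix.exists_vecMul_eq_zero_iff.mpr h0
      have h1 := hneg a hane
      have h2 : ∑ i, ∑ j, a i * a j * G i j = 0 := by
        rw [Finset.sum_comm]
        apply Finset.sum_eq_zero
        intro j _
        have h3 := congrFun hag j
        simp only [Matrix.vecMul, dotProduct, Pi.zero_apply] at h3
        have : ∑ i, a i * a j * G i j = a j * ∑ i, a i * G i j := by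
          rw [Finset.mul_sum]
          apply Finset.sum_congr rfl
          intro i _
          ring
        rw [this, h3, mul_zero]
      rw [h2] at h1
      exact lt_irrefl _ h1
    have hdet : Gr.det ≠ 0 := by
      rw [hGr, ← RingHom.map_det]
      change ((G.det : ℤ) : ℝ) ≠ 0
      exact_mod_cast hdetG
    set t : Fin r → ℝ := fun i => - B h (c i) with ht
    have htneg : ∀ i, t i < 0 := fun i => neg_neg_of_pos (hhc i)
    set b : Fin r → ℝ := Gr⁻¹.mulVec t with hb
    have hbt : Gr.mulVec b = t := by
      rw [hb, Matrix.mulVec_mulVec, Matrix.mul_nonsing_inv _ (isUnit_iff_ne_zero.mpr hdet),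
        Matrix.one_mulVec]
    have hb' : ∀ i, ∑ j, Gr i j * b j = t i := fun i => congrFun hbt i
    have hb0 : ∀ i, 0 ≤ b i := nonneg_of_solve Gr
      (fun i j hij => by rw [hGr_apply]; exact_mod_cast hoff i j hij)
      (fun a => by simpa [hGr_apply] using hsemi a) t htneg b hb'
    have hGsymm : ∀ i j, (G i j : ℝ) = (G j i : ℝ) := fun i j => by
      rw [← hG, ← hG, hsym]
    set x : NumR.N1R k X := h + ∑ j, b j • c j with hx
    have hxc : ∀ i, B x (c i) = 0 := by
      intro i
      rw [hx, map_add, LinearMap.add_apply, map_sum, LinearMap.sum_apply]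
      have h1 : ∑ j, B (b j • c j) (c i) = ∑ j, Gr i j * b j := by
        apply Finset.sum_congr rfl
        intro j _
        rw [map_smul, LinearMap.smul_apply, smul_eq_mul, hG, hGr_apply, hGsymm j i]
        ring
      rw [h1, hb' i, ht]
      ring
    have hxh : 0 < B x h := by
      rw [hx, map_add, LinearMap.add_apply, map_sum, LinearMap.sum_apply]
      have : 0 ≤ ∑ j, B (b j • c j) h := by
        apply Finset.sum_nonneg
        intro j _
        rw [map_smul, LinearMap.smul_apply, smul_eq_mul]
        exact mul_nonneg (hb0 j) (hch j).le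
      linarith
    have hxx : B x x = B x h := by
      conv_lhs => rw [hx]
      rw [map_add, map_sum]
      have : ∑ j, B x (b j • c j) = 0 := by
        apply Finset.sum_eq_zero
        intro j _
        rw [map_smul, hxc, smul_zero]
      rw [this, add_zero]
    have hxnef : x ∈ NumR.nefCone₂ k X B := by
      intro I hI hId hIinv
      by_cases hex : ∃ i, C i = I
      · obtain ⟨i, rfl⟩ := hex
        exact (hxc i).ge
      · push Not at hex
        rw [hx, map_add, LinearMap.add_apply, map_sum, LinearMap.sum_apply]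
        have h1 : 0 < B h (NumR.curveCl k X I hIinv) :=
          B_ample_curveCl_pos k X hdim B hB I hIinv hId h hhA
        have h2 : 0 ≤ ∑ j, B (b j • c j) (NumR.curveCl k X I hIinv) := by
          apply Finset.sum_nonneg
          intro j _
          rw [map_smul, LinearMap.smul_apply, smul_eq_mul]
          apply mul_nonneg (hb0 j)
          simp only [hc, NumR.curveCl]
          rw [map_neg, map_neg, LinearMap.neg_apply, neg_neg, hB]
          exact_mod_cast intNum_curves_nonneg k X hdim (C j) I (hCi j) hI (hCd j) hId (hCinv j)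
            hIinv (hex j)
        linarith
    refine ⟨x, ?_, ⟨by rw [hxx]; exact hxh, hxh⟩, fun i => hxc i⟩
    rw [closure_ampleCone k X hdim hreg B hB H hH]
    exact hxnef

end Groth.Agent.H5.NumRS
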